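import Mathlib

/-!
# Fixed points of a Sylow subgroup on cosets
-/

set_option autoImplicit false

open scoped Pointwise

namespace Cfsg.Agent.H858.Fix

/-- the cosets of `M` fixed by `P` -/
def fixSet {G : Type*} [Group G] (M P : Subgroup G) : Set (G ⧸ M) := {c | ∀ p ∈ P, p • c = c}

section

variable {G : Type*} [Group G]

theorem mk_mem_fixSet {M P : Subgroup G} {g : G} :
    (QuotientGroup.mk g : G ⧸ M) ∈ fixSet M P ↔ ∀ p ∈ P, g⁻¹ * p * g ∈ M := by
  unfold fixSet
  constructor
  · intro h p hp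
    have h1 := h p⁻¹ (P.inv_mem hp)
    have h2 : (QuotientGroup.mk (p⁻¹ * g) : G ⧸ M) = QuotientGroup.mk g := h1
    rw [QuotientGroup.eq] at h2
    have e : (p⁻¹ * g)⁻¹ * g = g⁻¹ * p * g := by group
    rwa [e] at h2
  · intro h p hp
    show (QuotientGroup.mk (p * g) : G ⧸ M) = QuotientGroup.mk g
    rw [QuotientGroup.eq]
    have e : (p * g)⁻¹ * g = g⁻¹ * p⁻¹ * g := by group
    rw [e]
    exact h _ (P.inv_mem hp)

/-- two Sylow subgroups of `M` are conjugate in `M` -/
theorem exists_conj [Finite G] {p : ℕ} [Fact p.Prime] {M P P' : Subgroup G} (hPM : P ≤ M)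
    (hPM' : P' ≤ M) (hP : IsPGroup p P) (hP' : IsPGroup p P') (hi : ¬ p ∣ P.index)
    (hi' : ¬ p ∣ P'.index) : ∃ m ∈ M, P.map (MulAut.conj m).toMonoidHom = P' := by
  have h1 : ¬ p ∣ (P.subgroupOf M).index := fun h =>
    hi (h.trans (Subgroup.relIndex_dvd_index_of_le hPM))
  have h2 : ¬ p ∣ (P'.subgroupOf M).index := fun h =>
    hi' (h.trans (Subgroup.relIndex_dvd_index_of_le hPM'))
  have g1 : IsPGroup p (P.subgroupOf M) := hP.comap_subtype
  have g2 : IsPGroup p (P'.subgroupOf M) := hP'.comap_subtype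
  obtain ⟨m, hm⟩ := MulAction.exists_smul_eq M (g1.toSylow h1) (g2.toSylow h2)
  have hm' : (P.subgroupOf M).map (MulAut.conj m).toMonoidHom = P'.subgroupOf M := by
    have := congrArg (fun S : Sylow p M => (S : Subgroup M)) hm
    exact this
  refine ⟨m, m.2, ?_⟩
  have h3 := congrArg (Subgroup.map M.subtype) hm'
  rw [Subgroup.subgroupOf_map_subtype, inf_eq_left.2 hPM', Subgroup.map_map] at h3
  rw [← h3]
  have h4 : P = (P.subgroupOf M).map M.subtype := by
    rw [Subgroup.subgroupOf_map_subtype, inf_eq_left.2 hPM]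
  conv_lhs => rw [h4, Subgroup.map_map]
  rfl

theorem index_map_conj {P : Subgroup G} (g : G) :
    (P.map (MulAut.conj g).toMonoidHom).index = P.index :=
  Subgroup.index_map_equiv P (MulAut.conj g)

theorem mem_map_conj {P : Subgroup G} {g x : G} :
    x ∈ P.map (MulAut.conj g).toMonoidHom ↔ g⁻¹ * x * g ∈ P := by
  constructor
  · rintro ⟨y, hy, rfl⟩
    have e : g⁻¹ * (MulAut.conj g).toMonoidHom y * g = y := by
      show g⁻¹ * (g * y * g⁻¹) * g = y
      group
    rw [e]; exact hy
  · intro h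
    refine ⟨_, h, ?_⟩
    show g * (g⁻¹ * x * g) * g⁻¹ = x
    group

/-- the number of cosets of `M` fixed by the Sylow subgroup `P ≤ M` -/
theorem card_fix_mul [Finite G] {p : ℕ} [Fact p.Prime] {M P : Subgroup G} (hPM : P ≤ M)
    (hP : IsPGroup p P) (hi : ¬ p ∣ P.index) :
    (fixSet M P).ncard * Nat.card (Subgroup.normalizer (P : Set G) ⊓ M : Subgroup G) =
      Nat.card (Subgroup.normalizer (P : Set G)) := by
  set N := Subgroup.normalizer (P : Set G) with hN
  have horb : (MulAction.orbit N (QuotientGroup.mk 1 : G ⧸ M)) = fixSet M P := by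
    ext c
    constructor
    · rintro ⟨n, rfl⟩
      show (QuotientGroup.mk ((n : G) * 1) : G ⧸ M) ∈ _
      rw [mk_mem_fixSet]
      intro q hq
      rw [mul_one]
      apply hPM
      have := (Subgroup.mem_normalizer_iff.1 (N.inv_mem n.2) q).1 hq
      rwa [inv_inv] at this
    · intro hc
      obtain ⟨g, rfl⟩ := QuotientGroup.mk_surjective c
      rw [mk_mem_fixSet] at hc
      have h1 : P.map (MulAut.conj g⁻¹).toMonoidHom ≤ M := by
        rintro x hx
        rw [mem_map_conj, inv_inv] at hx
        have := hc _ hx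
        have e : g⁻¹ * (g * x * g⁻¹) * g = x := by group
        rwa [e] at this
      obtain ⟨m, hm, h2⟩ := exists_conj h1 hPM (hP.map _) hP
        (by rwa [index_map_conj]) hi
      rw [Subgroup.map_map] at h2
      have h3 : m * g⁻¹ ∈ N := by
        rw [hN, Subgroup.mem_normalizer_iff]
        intro x
        have h4 : x ∈ P ↔ m * g⁻¹ * x * (m * g⁻¹)⁻¹ ∈ P := by
          constructor
          · intro hx
            rw [← h2]
            refine ⟨x, hx, ?_⟩
            show m * (g⁻¹ * x * g⁻¹⁻¹) * m⁻¹ = _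
            group
          · intro hx
            rw [← h2] at hx
            obtain ⟨y, hy, hyx⟩ := hx
            have h5 : m * (g⁻¹ * y * g⁻¹⁻¹) * m⁻¹ = m * g⁻¹ * x * (m * g⁻¹)⁻¹ := hyx
            have h6 : y = x := by
              have h7 : m * g⁻¹ * y * (m * g⁻¹)⁻¹ = m * g⁻¹ * x * (m * g⁻¹)⁻¹ := by
                rw [← h5]; group
              exact mul_left_cancel (mul_right_cancel h7)
            rwa [← h6]
        exact h4
      refine ⟨⟨(m * g⁻¹)⁻¹, N.inv_mem h3⟩, ?_⟩
      show (QuotientGroup.mk ((m * g⁻¹)⁻¹ * 1) : G ⧸ M) = _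
      rw [QuotientGroup.eq]
      have e : ((m * g⁻¹)⁻¹ * 1)⁻¹ * g = m := by group
      rw [e]; exact hm
  have hst : Nat.card (MulAction.stabilizer N (QuotientGroup.mk 1 : G ⧸ M)) =
      Nat.card (N ⊓ M : Subgroup G) := by
    have e1 : MulAction.stabilizer N (QuotientGroup.mk 1 : G ⧸ M) = M.subgroupOf N := by
      ext n
      rw [MulAction.mem_stabilizer_iff, Subgroup.mem_subgroupOf]
      show (QuotientGroup.mk ((n : G) * 1) : G ⧸ M) = _ ↔ _
      rw [QuotientGroup.eq]
      have e : ((n : G) * 1)⁻¹ * 1 = (n : G)⁻¹ := by group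
      rw [e, inv_mem_iff]
    rw [e1]
    have e2 : (M.subgroupOf N).map N.subtype = N ⊓ M := by
      rw [Subgroup.subgroupOf_map_subtype, inf_comm]
    rw [← e2]
    exact Nat.card_congr ((M.subgroupOf N).equivMapOfInjective N.subtype
      N.subtype_injective).toEquiv
  rw [← horb, ← hst, ← Nat.card_coe_set_eq]
  have := Nat.card_congr (MulAction.orbitProdStabilizerEquivGroup N (QuotientGroup.mk 1 : G ⧸ M))
  rw [Nat.card_prod] at this
  exact this

/-- the number of fixed points modulo `p` -/
theorem card_fix_modEq [Finite G] {p : ℕ} [Fact p.Prime] (M : Subgroup G) {P : Subgroup G}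
    (hP : IsPGroup p P) : (fixSet M P).ncard ≡ M.index [MOD p] := by
  have h := hP.card_modEq_card_fixedPoints (G ⧸ M)
  have e : MulAction.fixedPoints P (G ⧸ M) = fixSet M P := by
    ext c
    exact ⟨fun h p hp => h ⟨p, hp⟩, fun h p => h p p.2⟩
  rw [e, Nat.card_coe_set_eq] at h
  exact h.symm

/-- no fixed points when `p` does not divide the order of `M` -/
theorem fixSet_eq_empty [Finite G] {p : ℕ} [Fact p.Prime] {M P : Subgroup G}
    (hP : Nat.card P = p) (hM : ¬ p ∣ Nat.card M) : fixSet M P = ∅ := by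
  rw [Set.eq_empty_iff_forall_notMem]
  intro c hc
  obtain ⟨g, rfl⟩ := QuotientGroup.mk_surjective c
  rw [mk_mem_fixSet] at hc
  apply hM
  have h1 : P.map (MulAut.conj g⁻¹).toMonoidHom ≤ M := by
    rintro x hx
    rw [mem_map_conj, inv_inv] at hx
    have := hc _ hx
    have e : g⁻¹ * (g * x * g⁻¹) * g = x := by group
    rwa [e] at this
  have h2 : Nat.card (P.map (MulAut.conj g⁻¹).toMonoidHom) = p := by
    rw [← hP]
    exact Nat.card_congr (P.equivMapOfInjective (MulAut.conj g⁻¹).toMonoidHom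
      (MulAut.conj g⁻¹).injective).symm.toEquiv
  rw [← h2]
  exact Subgroup.card_dvd_of_le h1

/-- bound for the number of fixed points: if `P` of prime order `p` is a Sylow subgroup, the number of fixed
points times the order of the normalizer of a conjugate inside `M` is the order of `N(P)`. -/
theorem exists_fix_mul [Finite G] {p : ℕ} [Fact p.Prime] {M P : Subgroup G}
    (hP : IsPGroup p P) (hi : ¬ p ∣ P.index) (hne : (fixSet M P).Nonempty) :
    ∃ g : G, P.map (MulAut.conj g).toMonoidHom ≤ M ∧ (fixSet M P).ncard *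
      Nat.card (Subgroup.normalizer ((P.map (MulAut.conj g).toMonoidHom : Subgroup G) : Set G) ⊓ M : Subgroup G) =
        Nat.card (Subgroup.normalizer (P : Set G)) := by
  obtain ⟨c, hc⟩ := hne
  obtain ⟨g, rfl⟩ := QuotientGroup.mk_surjective c
  rw [mk_mem_fixSet] at hc
  have h1 : P.map (MulAut.conj g⁻¹).toMonoidHom ≤ M := by
    rintro x hx
    rw [mem_map_conj, inv_inv] at hx
    have := hc _ hx
    have e : g⁻¹ * (g * x * g⁻¹) * g = x := by group
    rwa [e] at this
  refine ⟨g⁻¹, h1, ?_⟩
  have h2 := card_fix_mul h1 (hP.map _) (by rwa [index_map_conj])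
  have h3 : (fixSet M (P.map (MulAut.conj g⁻¹).toMonoidHom)).ncard = (fixSet M P).ncard := by
    symm
    apply Set.ncard_congr (fun c _ => g⁻¹ • c)
    · intro c hc q hq
      rw [mem_map_conj, inv_inv] at hq
      have h4 := hc _ hq
      rw [smul_smul]
      have e : q * g⁻¹ = g⁻¹ * (g * q * g⁻¹) := by group
      rw [e, mul_smul, h4]
    · intro a b _ _ h
      exact MulAction.injective _ h
    · intro c hc
      refine ⟨g • c, ?_, by rw [inv_smul_smul]⟩
      intro q hq
      have h4 := hc (g⁻¹ * q * g) (by rw [mem_map_conj]; have e : g⁻¹⁻¹ * (g⁻¹ * q * g) * g⁻¹ = q := by group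
                                      rw [e]; exact hq)
      rw [smul_smul]
      have e : q * g = g * (g⁻¹ * q * g) := by group
      rw [e, mul_smul, h4]
  have h5 : Nat.card (Subgroup.normalizer ((P.map (MulAut.conj g⁻¹).toMonoidHom : Subgroup G) : Set G)) =
      Nat.card (Subgroup.normalizer (P : Set G)) := by
    rw [← Subgroup.map_equiv_normalizer_eq P (MulAut.conj g⁻¹)]
    exact Nat.card_congr ((Subgroup.normalizer (P : Set G)).equivMapOfInjective (MulAut.conj g⁻¹).toMonoidHom
      (MulAut.conj g⁻¹).injective).symm.toEquiv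
  rw [← h3, h2, h5]

end

end Cfsg.Agent.H858.Fix
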