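import Cfsg.Agent.H217.Odm.Eng2
import Cfsg.Agent.H217.Odm.Real
import Cfsg.Agent.H348.PPD.RowM22
import Cfsg.Agent.H968.TwoM22Fact

/-!
# TEAM ODDM (S4785): the row of `M₂₂` (helper858)
-/

set_option autoImplicit false
set_option maxRecDepth 100000

namespace Cfsg.Agent.H858.OdmRowM22

open Subgroup Cfsg
open Cfsg.Agent.H453.OddM Cfsg.Agent.H217.Odm

universe u

variable {G : Type u} [Group G]

theorem cent_zpowers (x : G) : centralizer ((zpowers x : Subgroup G) : Set G) = centralizer ({x} : Set G) := by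
  rw [zpowers_eq_closure, centralizer_closure]

/-- the centralizers of all the elements of order `p`, `p ∥ |G|`, have the same order -/
theorem card_cent_all [Finite G] {p n : ℕ} (hp : p.Prime) (hn : Nat.card G = p * n) (hpn : n % p ≠ 0) {x y : G}
    (hx : orderOf x = p) (hy : orderOf y = p) :
    Nat.card (centralizer ({y} : Set G)) = Nat.card (centralizer ({x} : Set G)) := by
  have hp' : Fact p.Prime := ⟨hp⟩
  have hfac : (Nat.card G).factorization p = 1 := by
    rw [hn, Nat.factorization_mul hp.ne_zero (fun h => by rw [h, Nat.zero_mod] at hpn; exact hpn rfl),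
      Finsupp.add_apply, hp.factorization_self, Nat.factorization_eq_zero_of_not_dvd
        (fun h => hpn (Nat.mod_eq_zero_of_dvd h))]
  let P : Sylow p G := Sylow.ofCard (zpowers x) (by rw [Nat.card_zpowers, hx, hfac, pow_one])
  let Q : Sylow p G := Sylow.ofCard (zpowers y) (by rw [Nat.card_zpowers, hy, hfac, pow_one])
  obtain ⟨g, hg⟩ := MulAction.exists_smul_eq G P Q
  have h1 : (Q : Subgroup G) = (P : Subgroup G).map (MulAut.conj g).toMonoidHom := by
    rw [← hg]; rfl
  have h1' : zpowers y = (zpowers x).map (MulAut.conj g).toMonoidHom := h1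
  have h2 : centralizer ({y} : Set G) = (centralizer ({x} : Set G)).map (MulAut.conj g).toMonoidHom := by
    rw [← cent_zpowers, ← cent_zpowers x, h1']
    ext z
    rw [mem_centralizer_iff]
    constructor
    · intro h
      refine ⟨g⁻¹ * z * g, ?_, by simp [mul_assoc]⟩
      rw [SetLike.mem_coe, mem_centralizer_iff]
      intro w hw
      have h3 := h (g * w * g⁻¹) ⟨w, hw, rfl⟩
      calc w * (g⁻¹ * z * g) = g⁻¹ * (g * w * g⁻¹ * z) * g := by group
        _ = _ := by rw [h3]; group
    · rintro ⟨v, hv, rfl⟩ _ ⟨w, hw, rfl⟩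
      rw [SetLike.mem_coe, mem_centralizer_iff] at hv
      rw [← map_mul, ← map_mul, hv w hw]
  rw [h2, Subgroup.card_map_of_injective (MulAut.conj g).injective]

/-- normalizers of subgroups of order three, real elements -/
theorem card_norm_three [Finite G] {x : G} (hx : orderOf x = 3) (hr : IsReal x) :
    Nat.card (normalizer ((zpowers x : Subgroup G) : Set G)) = 2 * Nat.card (centralizer ({x} : Set G)) := by
  obtain ⟨g, hg⟩ := hr
  set N := normalizer ((zpowers x : Subgroup G) : Set G) with hN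
  set C := centralizer ({x} : Set G) with hC
  have hx3 : x ^ 3 = 1 := by rw [← hx]; exact pow_orderOf_eq_one x
  have hx1 : x ≠ 1 := fun h => by rw [h, orderOf_one] at hx; omega
  have hxi : x⁻¹ ≠ x := by
    intro h
    have h1 : x ^ 2 = 1 := by rw [pow_two]; nth_rewrite 1 [← h]; exact inv_mul_cancel x
    have h2 := orderOf_dvd_of_pow_eq_one h1
    rw [hx] at h2
    omega
  have hmem : ∀ y : G, y ∈ zpowers x → y = 1 ∨ y = x ∨ y = x⁻¹ := by
    intro y hy
    obtain ⟨k, rfl⟩ := mem_zpowers_iff.1 hy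
    have h1 : x ^ k = x ^ (k % 3) := by
      rw [← zpow_mod_orderOf, hx]; norm_num
    have h2 : k % 3 = 0 ∨ k % 3 = 1 ∨ k % 3 = 2 := by omega
    rcases h2 with h2 | h2 | h2
    · left; rw [h1, h2, zpow_zero]
    · right; left; rw [h1, h2, zpow_one]
    · right; right
      rw [h1, h2]
      rw [eq_inv_iff_mul_eq_one, ← zpow_add_one]
      exact_mod_cast hx3
  have hCN : C ≤ N := by
    rw [hC, ← cent_zpowers]
    exact centralizer_le_normalizer _
  have hgN : g ∈ N := by
    rw [hN, mem_normalizer_iff]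
    have hz : ∀ k : ℤ, g * x ^ k * g⁻¹ = x ^ (-k) := by
      intro k
      rw [← conj_zpow, hg, inv_zpow', ]
    intro y
    constructor
    · intro hy
      obtain ⟨k, rfl⟩ := mem_zpowers_iff.1 hy
      rw [hz]
      exact ⟨-k, rfl⟩
    · intro hy
      obtain ⟨k, hk⟩ := mem_zpowers_iff.1 hy
      have : y = x ^ (-k) := by
        have h1 : g * y * g⁻¹ = g * x ^ (-k) * g⁻¹ := by rw [hz, neg_neg, hk]
        have h2 := mul_left_cancel (mul_right_cancel h1)
        exact h2
      rw [this]
      exact ⟨-k, rfl⟩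
  have hidx : (C.subgroupOf N).index = 2 := by
    rw [Subgroup.index_eq_two_iff]
    refine ⟨⟨g, hgN⟩, ?_⟩
    rintro ⟨b, hb⟩
    have hbx : b * x * b⁻¹ ∈ zpowers x := (mem_normalizer_iff.1 hb x).1 (mem_zpowers x)
    have hbx1 : b * x * b⁻¹ ≠ 1 := by
      intro h
      apply hx1
      have : x = b⁻¹ * (b * x * b⁻¹) * b := by group
      rw [this, h]; group
    have e1 : (⟨b, hb⟩ : N) ∈ C.subgroupOf N ↔ b * x * b⁻¹ = x := by
      rw [mem_subgroupOf, hC, mem_centralizer_singleton_iff, mul_inv_eq_iff_eq_mul]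
    have e2 : (⟨b, hb⟩ * ⟨g, hgN⟩ : N) ∈ C.subgroupOf N ↔ b * x * b⁻¹ = x⁻¹ := by
      rw [mem_subgroupOf, hC, mem_centralizer_singleton_iff]
      change b * g * x = x * (b * g) ↔ _
      constructor
      · intro h
        have h1 : b * x⁻¹ * b⁻¹ = x := by
          rw [← hg]
          calc b * (g * x * g⁻¹) * b⁻¹ = (b * g * x) * (b * g)⁻¹ := by group
            _ = x := by rw [h]; group
        have h2 : b * x * b⁻¹ = (b * x⁻¹ * b⁻¹)⁻¹ := by group
        rw [h2, h1]
      · intro h
        have h1 : b * x⁻¹ * b⁻¹ = x := by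
          have : b * x⁻¹ * b⁻¹ = (b * x * b⁻¹)⁻¹ := by group
          rw [this, h, inv_inv]
        rw [← hg] at h1
        calc b * g * x = (b * (g * x * g⁻¹) * b⁻¹) * (b * g) := by group
          _ = _ := by rw [h1]
    rw [e1, e2]
    rcases hmem _ hbx with h | h | h
    · exact absurd h hbx1
    · rw [h]
      exact Or.inr ⟨rfl, fun h2 => hxi h2.symm⟩
    · rw [h]
      exact Or.inl ⟨rfl, hxi⟩
  have h1 := Subgroup.card_mul_index (C.subgroupOf N)
  rw [hidx, Nat.card_congr (Subgroup.subgroupOfEquivOfLe hCN).toEquiv] at h1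
  rw [← h1, mul_comm]

/-- **The row of `M₂₂`.** -/
theorem row (tab : Cfsg.Agent.OrdDiv.OrderTable.{u}) (known : Cfsg.Agent.H257.El.Known.{u}) {T : Type u} [Group T]
    (h : Cfsg.Spor.IsoM22 T) : Cfsg.Agent.H453.OddM.Row T := by
  obtain ⟨e⟩ := h
  have D := H968.TwoM22.Three.congr e.symm H968.TwoM22.three
  have hc := D.card
  have : Finite T := Nat.finite_of_card_ne_zero (by rw [hc]; norm_num)
  obtain ⟨s, -, -, hs, -, -, -, hcs, hconj, -, -⟩ := D.three
  obtain ⟨x₁, hx₁, hc₁⟩ := D.eleven
  obtain ⟨x₂, hx₂, hc₂⟩ := D.seven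
  obtain ⟨x₀, hx₀, hc₀⟩ := H348.PPD.RowM22.cent5
  have hself : ∀ {x : T} {p : ℕ}, orderOf x = p → Nat.card (centralizer ({x} : Set T)) ≤ p →
      Nat.card (centralizer ({x} : Set T)) = p := by
    intro x p hx hle
    refine le_antisymm hle ?_
    have h1 : zpowers x ≤ centralizer ({x} : Set T) := zpowers_le.2 (mem_centralizer_singleton_iff.2 rfl)
    have h2 := Subgroup.card_le_of_le h1
    rwa [Nat.card_zpowers, hx] at h2
  have hc5 : Nat.card (centralizer ({e.symm x₀} : Set T)) = 5 := by
    rw [← hc₀]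
    exact (H968.TwoTool.card_cent_congr e.symm x₀).symm
  have k5 : ∀ x : T, orderOf x = 5 → Nat.card (centralizer ({x} : Set T)) = 5 := fun x hx => by
    rw [card_cent_all (n := 88704) (by norm_num) hc (by norm_num) (x := e.symm x₀) (by rw [MulEquiv.orderOf_eq, hx₀]) hx,
      hc5]
  have k7 : ∀ x : T, orderOf x = 7 → Nat.card (centralizer ({x} : Set T)) = 7 := fun x hx => by
    rw [card_cent_all (n := 63360) (by norm_num) hc (by norm_num) hx₂ hx, hself hx₂ hc₂]
  have k11 : ∀ x : T, orderOf x = 11 → Nat.card (centralizer ({x} : Set T)) = 11 := fun x hx => by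
    rw [card_cent_all (n := 40320) (by norm_num) hc (by norm_num) hx₁ hx, hself hx₁ hc₁]
  have n5 : ∀ x : T, orderOf x = 5 → Nat.card (normalizer ((zpowers x : Subgroup T) : Set T)) = 5 * 4 := fun x hx =>
    norm_of_self_cent (n := 88704) (by norm_num) hc (by norm_num) hx (k5 x hx)
  have n7 : ∀ x : T, orderOf x = 7 → Nat.card (normalizer ((zpowers x : Subgroup T) : Set T)) = 7 * 3 := fun x hx =>
    norm_of_self_cent (n := 63360) (by norm_num) hc (by norm_num) hx (k7 x hx)
  have n11 : ∀ x : T, orderOf x = 11 → Nat.card (normalizer ((zpowers x : Subgroup T) : Set T)) = 11 * 5 := fun x hx =>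
    norm_of_self_cent (n := 40320) (by norm_num) hc (by norm_num) hx (k11 x hx)
  have hreal5 : RealP T 5 := realP_of_self_cent (n := 88704) (by norm_num) hc (by norm_num) k5 (by decide)
  have hr3 : ∀ x : T, orderOf x = 3 → IsReal x := fun x hx => by
    obtain ⟨a, ha⟩ := isConj_iff.1 ((hconj x hx).symm.trans (hconj x⁻¹ (by rw [orderOf_inv, hx])))
    exact ⟨a, ha⟩
  have k3 : ∀ x : T, orderOf x = 3 → Nat.card (centralizer ({x} : Set T)) = 36 := fun x hx => by
    rw [← hcs]
    obtain ⟨a, ha⟩ := isConj_iff.1 (hconj x hx)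
    have h2 : centralizer ({x} : Set T) = (centralizer ({s} : Set T)).map (MulAut.conj a).toMonoidHom := by
      ext z
      rw [mem_centralizer_singleton_iff]
      constructor
      · intro h
        refine ⟨a⁻¹ * z * a, ?_, by simp [mul_assoc]⟩
        rw [SetLike.mem_coe, mem_centralizer_singleton_iff]
        rw [← ha] at h
        calc a⁻¹ * z * a * s = a⁻¹ * (z * (a * s * a⁻¹)) * a := by group
          _ = _ := by rw [h]; group
      · rintro ⟨v, hv, rfl⟩
        rw [SetLike.mem_coe, mem_centralizer_singleton_iff] at hv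
        rw [← ha]
        change a * v * a⁻¹ * (a * s * a⁻¹) = a * s * a⁻¹ * (a * v * a⁻¹)
        calc a * v * a⁻¹ * (a * s * a⁻¹) = a * (v * s) * a⁻¹ := by group
          _ = _ := by rw [hv]; group
    rw [h2, Subgroup.card_map_of_injective (MulAut.conj a).injective]
  have n3 : ∀ x : T, orderOf x = 3 → Nat.card (normalizer ((zpowers x : Subgroup T) : Set T)) = 3 * 24 := fun x hx => by
    rw [card_norm_three hx (hr3 x hx), k3 x hx]
  have hreal3 : RealP T 3 := ⟨s, hs, hr3 s hs⟩
  refine row_of_left tab known (l := [(2, 7), (3, 2), (5, 1), (7, 1), (11, 1)]) (r := 5) (ss := [3])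
    (aux := [(5, 4, true), (7, 3, false), (11, 5, false), (3, 24, true)]) (dv := []) hc (by norm_num)
    (fun R hR => hR.cov.dvd hreal5) (fun t ht => ?_) (fun R hR x hx => ?_) (fun R _ d hd => absurd hd List.not_mem_nil)
    (by decide +kernel) (by decide +kernel)
  · obtain rfl : t = 3 := by simpa using ht
    exact ⟨by norm_num, fun R hR => hR.cov.dvd hreal3,
      H257.El.noOrd_of_cent (by norm_num) k5 (by norm_num) (by norm_num)⟩
  · simp only [List.mem_cons, List.not_mem_nil, or_false] at hx
    rcases hx with rfl | rfl | rfl | rfl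
    · exact Pt.of_real hR (by norm_num) (by norm_num) hreal5 (by norm_num) n5 _
    · exact Pt.of_norm (by norm_num) (by norm_num) (by norm_num) n7
    · exact Pt.of_norm (by norm_num) (by norm_num) (by norm_num) n11
    · exact Pt.of_real hR (by norm_num) (by norm_num) hreal3 (by norm_num) n3 _

end Cfsg.Agent.H858.OdmRowM22
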