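import Cfsg.Agent.H858.Loc7
import Cfsg.Prelude.Def_Transfer

/-!
# The centralizer of an element of order 5 of `J4`
-/

set_option autoImplicit false

open Cfsg

namespace Cfsg.Agent.H858.Loc5

open Cfsg.Agent.Lib.F2MatGroup
open Cfsg.Agent.J4.Rep112 Cfsg.Agent.J4.Pres Cfsg.Agent.J4.M24Hom
open Cfsg.Agent.J4.Beta Cfsg.Agent.J4.Classes
open Cfsg.Agent.H858.VK Cfsg.Agent.H858.Data Cfsg.Agent.H858.Elem Cfsg.Agent.H858.Pent
open Cfsg.Agent.H858.Norm57 Cfsg.Agent.H858.Abs Cfsg.Agent.StdL2.G23Aut Cfsg.Agent.H858.Loc7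

/-- the subgroup of order 5 -/
noncomputable def F5 : Subgroup Cfsg.Spor.J4 := Subgroup.zpowers f

theorem f_ne : f ≠ 1 := by
  intro h
  have h1 := act_f
  rw [h] at h1
  have h2 := Act.one.unique h1
  revert h2
  decide +kernel

theorem card_F5 : Nat.card F5 = 5 := by
  have : Fact (Nat.Prime 5) := ⟨by norm_num⟩
  rw [F5, Nat.card_zpowers, orderOf_eq_prime f_pow f_ne]

theorem s_mem_C : s ∈ Subgroup.centralizer (F5 : Set Cfsg.Spor.J4) := by
  rw [F5, NormC.centralizer_zpowers, Subgroup.mem_centralizer_iff]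
  rintro _ rfl
  exact f_mul_s

theorem j_mem_C : j ∈ Subgroup.centralizer (F5 : Set Cfsg.Spor.J4) := by
  rw [F5, NormC.centralizer_zpowers, Subgroup.mem_centralizer_iff]
  rintro _ rfl
  exact j_mul_f.symm

theorem orderOf_s : orderOf s = 7 := by
  have : Fact (Nat.Prime 7) := ⟨by norm_num⟩
  exact orderOf_eq_prime s_pow s_ne

theorem card_normalizer_F5 :
    Nat.card (Subgroup.normalizer (F5 : Set Cfsg.Spor.J4)) = 26880 := by
  have : Fact (Nat.Prime 5) := ⟨by norm_num⟩
  obtain ⟨g, hg⟩ := exists_conj_prime (p := 5) card_Q5 card_F5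
    (by rw [FixJ4.card_J4]; norm_num)
  rw [card_normalizer_conj hg]
  apply card_normalizer_Q5_of
  rw [← card_normalizer_conj hg, ← orderOf_s]
  exact NormC.orderOf_dvd_of_mem (Subgroup.centralizer_le_normalizer _ s_mem_C)

theorem r_mem : r ∈ Subgroup.normalizer (F5 : Set Cfsg.Spor.J4) :=
  NormC.mem_normalizer_zpowers (k := 2) (by rw [r_mul_f, pow_two]; group)

/-- the centralizer of an element of order 5 has order 6720 -/
theorem card_C : Nat.card (Subgroup.centralizer (F5 : Set Cfsg.Spor.J4)) = 6720 := by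
  have : Fact (Nat.Prime 2) := ⟨by norm_num⟩
  obtain ⟨k, hk, h1⟩ := NormC.exists_card_normalizer_prime (by norm_num) card_F5
  rw [card_normalizer_F5] at h1
  have h2 := mul_card_centralizer_dvd (p := 2) (n := 1) r_mem (by simpa using r_pow)
    (by rw [pow_one]; exact sq_notMem r_mul_f f_pow f_ne)
  rw [card_normalizer_F5] at h2
  set C := Nat.card (Subgroup.centralizer (F5 : Set Cfsg.Spor.J4)) with hC
  have hk4 : k ≤ 4 := Nat.le_of_dvd (by norm_num) hk
  obtain ⟨n, hn⟩ := h2
  have h7 : 0 < C := Nat.card_pos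
  have h8 : k = 4 * n := by
    apply Nat.eq_of_mul_eq_mul_right h7
    rw [← h1, hn]; ring
  have h9 : k = 4 := by
    rcases Nat.eq_zero_or_pos n with h | h
    · subst h; omega
    · omega
  rw [h9] at h1
  omega

/-! ### The group `J` of order 1344 -/

/-- the group `2^3·L_3(2)` -/
noncomputable def J : Subgroup Cfsg.Spor.J4 := Subgroup.closure {s, j}

theorem s_mem : s ∈ J := Subgroup.subset_closure (Or.inl rfl)
theorem j_mem : j ∈ J := Subgroup.subset_closure (Or.inr rfl)

theorem J_le_C : J ≤ Subgroup.centralizer (F5 : Set Cfsg.Spor.J4) := by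
  unfold J
  rw [Subgroup.closure_le]
  rintro _ (rfl | rfl)
  · exact s_mem_C
  · exact j_mem_C

theorem act_s : Act s 1 := by
  have h := act_kw ls
  have h1 : pkw ls = 1 := by decide
  rw [h1] at h
  exact h

theorem act_j : Act j 1 := by
  have h := (act_V 1224).mul (act_kw lw)
  have h1 : beta lP 1224 * pkw lw = 1 := by decide +kernel
  rw [h1] at h
  exact h

theorem act_J {x : Cfsg.Spor.J4} (hx : x ∈ J) : Act x 1 := by
  unfold J at hx
  induction hx using Subgroup.closure_induction with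
  | mem x hx =>
    rcases hx with rfl | rfl
    · exact act_s
    · exact act_j
  | one => exact Act.one
  | mul x y _ _ hx hy =>
    have := hx.mul hy
    rwa [one_mul] at this
  | inv x _ hx =>
    have := hx.inv
    rwa [inv_one] at this

theorem F5_inf : F5 ⊓ J = ⊥ := by
  have : Fact (Nat.Prime 5) := ⟨by norm_num⟩
  have h1 : Nat.card (F5 ⊓ J : Subgroup Cfsg.Spor.J4) ∣ 5 := by
    rw [← card_F5]
    exact Subgroup.card_dvd_of_le inf_le_left
  rcases (Nat.dvd_prime (by norm_num)).1 h1 with h | h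
  · exact Subgroup.card_eq_one.1 h
  · exfalso
    have h2 : F5 ⊓ J = F5 := Subgroup.eq_of_le_of_card_ge inf_le_left (by rw [h, card_F5])
    have h3 : f ∈ F5 := Subgroup.mem_zpowers f
    rw [← h2] at h3
    have h4 := act_J (Subgroup.mem_inf.1 h3).2
    have h5 := act_f.unique h4
    revert h5
    decide +kernel

theorem F5_le_C : F5 ≤ Subgroup.centralizer (F5 : Set Cfsg.Spor.J4) := by
  rw [F5, NormC.centralizer_zpowers, Subgroup.zpowers_le, Subgroup.mem_centralizer_iff]
  rintro _ rfl; rfl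

theorem card_J_le : Nat.card J ≤ 1344 := by
  have h1 := card_mul_le F5_le_C J_le_C F5_inf
  rw [card_C, card_F5] at h1
  omega

/-! ### The action on `Z` -/

theorem s_norm : s ∈ Subgroup.normalizer (Z : Set Cfsg.Spor.J4) := by
  apply conj_span
  intro a ha
  rw [conj_s]
  have h : ∀ a ∈ zl, ∃ u < 8, lin zl u = lin ms a := by decide +kernel
  obtain ⟨u, -, hu⟩ := h a ha
  exact mem_span_of u hu

theorem conj_j (v : ℕ) : j * V v * j⁻¹ = V (lin mw v) := by
  unfold j
  have e : V 1224 * phi (kw lw) * V v * (V 1224 * phi (kw lw))⁻¹ =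
      V 1224 * (phi (kw lw) * V v * (phi (kw lw))⁻¹) * (V 1224)⁻¹ := by group
  rw [e, conj_w, V_comm, mul_inv_cancel_right]

theorem j_norm : j ∈ Subgroup.normalizer (Z : Set Cfsg.Spor.J4) := by
  apply conj_span
  intro a ha
  rw [conj_j]
  have h : ∀ a ∈ zl, ∃ u < 8, lin zl u = lin mw a := by decide +kernel
  obtain ⟨u, -, hu⟩ := h a ha
  exact mem_span_of u hu

theorem J_le_norm : J ≤ Subgroup.normalizer (Z : Set Cfsg.Spor.J4) := by
  unfold J
  rw [Subgroup.closure_le]
  rintro _ (rfl | rfl)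
  · exact s_norm
  · exact j_norm

theorem Z_le_J : Z ≤ J := by
  have h0 : V 1394 ∈ J := by rw [← j_pow]; exact J.pow_mem j_mem 4
  have hs : ∀ v, V v ∈ J → V (lin ms v) ∈ J := by
    intro v hv
    rw [← conj_s]
    exact J.mul_mem (J.mul_mem s_mem hv) (J.inv_mem s_mem)
  have h1 := hs _ h0
  have h2 := hs _ h1
  have h3 := hs _ h2
  have e1 : lin ms (lin ms 1394) = 165 := by decide +kernel
  rw [e1] at h2
  have e2 : lin ms (lin ms (lin ms 1394)) = 873 := by decide +kernel
  rw [e2] at h3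
  apply span_le
  intro a ha
  unfold zl at ha
  simp only [List.mem_cons, List.not_mem_nil, or_false] at ha
  rcases ha with rfl | rfl | rfl
  · exact h2
  · exact h3
  · exact h0

/-- the automorphism induced on `Z` -/
noncomputable def πZ : Subgroup.normalizer (Z : Set Cfsg.Spor.J4) →* MulAut Z :=
  Z.normalizerMonoidHom

theorem j_pow_cent : j ^ 4 ∈ Subgroup.centralizer (Z : Set Cfsg.Spor.J4) := by
  rw [j_pow]; exact V_cent _

theorem j_sq_notMem : j ^ 2 ∉ Subgroup.centralizer (Z : Set Cfsg.Spor.J4) := by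
  intro h
  rw [Subgroup.mem_centralizer_iff] at h
  have h1 := h (V 873) (V_mem_Z 2 (by decide))
  have h2 : j ^ 2 * V 873 * (j ^ 2)⁻¹ = V (lin mw (lin mw 873)) := by
    rw [← conj_j, ← conj_j, pow_two]; group
  rw [← h1, mul_inv_cancel_right] at h2
  have h3 := V_inj (by norm_num) (lin_lt (by decide) _) h2
  revert h3
  decide +kernel

theorem orderOf_πj : orderOf (πZ ⟨j, j_norm⟩) = 4 := by
  have : Fact (Nat.Prime 2) := ⟨by norm_num⟩
  have h : orderOf (πZ ⟨j, j_norm⟩) = 2 ^ (1 + 1) := by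
    apply orderOf_eq_prime_pow
    · intro h
      rw [← map_pow] at h
      have h4 : (⟨j, j_norm⟩ : Subgroup.normalizer (Z : Set Cfsg.Spor.J4)) ^ 2 ^ 1 ∈ πZ.ker := h
      unfold πZ at h4
      rw [Subgroup.normalizerMonoidHom_ker, Subgroup.mem_subgroupOf] at h4
      exact j_sq_notMem (by simpa using h4)
    · rw [← map_pow]
      have h4 : (⟨j, j_norm⟩ : Subgroup.normalizer (Z : Set Cfsg.Spor.J4)) ^ 2 ^ (1 + 1) ∈
          πZ.ker := by
        unfold πZ
        rw [Subgroup.normalizerMonoidHom_ker, Subgroup.mem_subgroupOf]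
        simpa using j_pow_cent
      exact h4
  simpa using h

theorem orderOf_πs : orderOf (πZ ⟨s, s_norm⟩) = 7 := by
  have : Fact (Nat.Prime 7) := ⟨by norm_num⟩
  apply orderOf_eq_prime
  · rw [← map_pow]
    have h4 : (⟨s, s_norm⟩ : Subgroup.normalizer (Z : Set Cfsg.Spor.J4)) ^ 7 = 1 :=
      Subtype.ext s_pow
    rw [h4, map_one]
  · intro h
    have h4 : (⟨s, s_norm⟩ : Subgroup.normalizer (Z : Set Cfsg.Spor.J4)) ∈ πZ.ker := h
    unfold πZ at h4
    rw [Subgroup.normalizerMonoidHom_ker, Subgroup.mem_subgroupOf] at h4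
    exact s_notMem h4

/-- a subgroup of the automorphism group of `Z` containing the images of `s` and `j` is everything -/
theorem eq_top_of_mem {X : Subgroup (MulAut Z)} (hs : πZ ⟨s, s_norm⟩ ∈ X)
    (hj : πZ ⟨j, j_norm⟩ ∈ X) : X = ⊤ := by
  have := oct_Z.simple_aut
  have := oct_Z.finite_aut
  by_contra hX
  have h1 := Cfsg.Agent.SmallSimple.Simple168Klein.index_ge_seven oct_Z.card_aut X hX
  have h2 := X.card_mul_index
  rw [oct_Z.card_aut] at h2
  have h7 : 7 ∣ Nat.card X := orderOf_πs ▸ NormC.orderOf_dvd_of_mem hs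
  have h4 : 4 ∣ Nat.card X := orderOf_πj ▸ NormC.orderOf_dvd_of_mem hj
  have h28 : 28 ∣ Nat.card X := Nat.Coprime.mul_dvd_of_dvd_of_dvd (by norm_num) h4 h7
  have h3 : 28 ≤ Nat.card X := Nat.le_of_dvd Nat.card_pos h28
  nlinarith

/-- the map from `J` to the automorphism group of `Z` -/
noncomputable def πJ : J →* MulAut Z := πZ.comp (Subgroup.inclusion J_le_norm)

theorem πJ_surjective : Function.Surjective πJ := by
  rw [← MonoidHom.range_eq_top]
  exact eq_top_of_mem ⟨⟨s, s_mem⟩, rfl⟩ ⟨⟨j, j_mem⟩, rfl⟩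

theorem Z_le_ker : Z.subgroupOf J ≤ πJ.ker := by
  intro x hx
  rw [Subgroup.mem_subgroupOf] at hx
  obtain ⟨u, hu⟩ := hx
  have h4 : (Subgroup.inclusion J_le_norm x) ∈ πZ.ker := by
    unfold πZ
    rw [Subgroup.normalizerMonoidHom_ker, Subgroup.mem_subgroupOf]
    show (x : Cfsg.Spor.J4) ∈ _
    rw [hu]
    exact V_cent _
  exact h4

theorem card_Z_subgroupOf : Nat.card (Z.subgroupOf J) = 8 := by
  rw [Nat.card_congr (Subgroup.subgroupOfEquivOfLe Z_le_J).toEquiv, card_Z]

theorem card_J_mul : Nat.card πJ.ker * 168 = Nat.card J := by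
  have h1 := πJ.ker.card_mul_index
  rw [Subgroup.index_ker, MonoidHom.range_eq_top.2 πJ_surjective, Subgroup.card_top,
    oct_Z.card_aut] at h1
  exact h1

theorem card_J : Nat.card J = 1344 := by
  apply le_antisymm card_J_le
  have h1 := card_J_mul
  have h2 := Subgroup.card_le_of_le Z_le_ker
  rw [card_Z_subgroupOf] at h2
  omega

theorem ker_πJ : πJ.ker = Z.subgroupOf J := by
  symm
  apply Subgroup.eq_of_le_of_card_ge Z_le_ker
  have h1 := card_J_mul
  rw [card_J] at h1
  rw [card_Z_subgroupOf]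
  omega

/-- **the centralizer of an element of order 5 of `J4`** -/
theorem directProduct : IsInternalDirectProduct F5 J
    (Subgroup.centralizer (F5 : Set Cfsg.Spor.J4)) := by
  refine isInternalDirectProduct F5_le_C J_le_C ?_ F5_inf ?_
  · intro a ha b hb
    exact Subgroup.mem_centralizer_iff.1 (J_le_C hb) a ha
  · rw [card_C, card_F5, card_J]

theorem normal_Z : (Z.subgroupOf J).Normal := by
  rw [← ker_πJ]; infer_instance

theorem elemAb_Z : IsElementaryAbelian 2 (Z.subgroupOf J) := by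
  refine ⟨⟨⟨fun a b => ?_⟩⟩, fun a ha => ?_⟩
  · apply Subtype.ext
    apply Subtype.ext
    exact oct_Z.comm (Subgroup.mem_subgroupOf.1 a.2) (Subgroup.mem_subgroupOf.1 b.2)
  · apply Subtype.ext
    show ((a : Cfsg.Spor.J4)) ^ 2 = 1
    rw [pow_two]
    exact oct_Z.sq _ (Subgroup.mem_subgroupOf.1 ha)

/-- the automorphism group of `Z` is `SL(3, 2)` -/
theorem equiv_SL : Nonempty (MulAut Z ≃* Matrix.SpecialLinearGroup (Fin 3) (ZMod 2)) := by
  obtain ⟨e⟩ := equiv_GL (V := Z) (fun v => Subtype.ext (oct_Z.sq v v.2)) card_Z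
  exact ⟨e.trans (MulEquiv.ofBijective Matrix.SpecialLinearGroup.toGL
    ⟨toGL_injective, toGL_surjective⟩).symm⟩

theorem equiv_quot [hN : (Z.subgroupOf J).Normal] :
    Nonempty (J ⧸ Z.subgroupOf J ≃* Matrix.SpecialLinearGroup (Fin 3) (ZMod 2)) := by
  obtain ⟨e⟩ := equiv_SL
  exact ⟨(QuotientGroup.quotientMulEquivOfEq ker_πJ.symm).trans
    ((QuotientGroup.quotientKerEquivOfSurjective πJ πJ_surjective).trans e)⟩

theorem nonsplit_Z (K : Subgroup J) : ¬ (Z.subgroupOf J).IsComplement' K := by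
  have := normal_Z
  refine nonsplit card_Z_subgroupOf (s := ⟨s, s_mem⟩) (j := ⟨j, j_mem⟩) (Subtype.ext s_pow)
    (Subtype.ext sj_pow) ?_ ?_ ?_ K
  · rw [Subgroup.mem_subgroupOf]
    show j ^ 4 ∈ Z
    rw [j_pow]
    exact V_mem_Z 4 (by decide)
  · intro h
    have h1 : j ^ 4 = 1 := congrArg Subtype.val h
    rw [j_pow, ← V_zero] at h1
    exact absurd (V_inj (by norm_num) (by norm_num) h1) (by norm_num)
  · apply Subtype.ext
    show j ^ 8 = 1
    have e : j ^ 8 = j ^ 4 * j ^ 4 := by group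
    rw [e, j_pow, V_sq]

end Cfsg.Agent.H858.Loc5
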