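import Cfsg.Agent.H858.Loc5
import Cfsg.Agent.H858.Trans

/-!
# Transport of the local structure at 5
-/

set_option autoImplicit false

open Cfsg

namespace Cfsg.Agent.H858.Trans5

universe u v

/-- `J` is a non-split extension of an elementary abelian group of order 8 by `L_3(2)` -/
def NS (J : Type u) [Group J] : Prop :=
  ∃ (E : Subgroup J) (_ : E.Normal), Cfsg.IsElementaryAbelian 2 E ∧ Nat.card ↥E = 8 ∧
    Nonempty (J ⧸ E ≃* Matrix.SpecialLinearGroup (Fin 3) (ZMod 2)) ∧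
    ∀ K : Subgroup J, ¬ E.IsComplement' K

theorem isComplement'_map {A : Type u} {B : Type v} [Group A] [Group B] (e : A ≃* B)
    {E K : Subgroup A} (h : E.IsComplement' K) :
    (E.map e.toMonoidHom).IsComplement' (K.map e.toMonoidHom) := by
  rw [Subgroup.isComplement'_def, Subgroup.isComplement_iff_existsUnique]
  intro b
  obtain ⟨x, hx, hu⟩ := (Subgroup.isComplement_iff_existsUnique.1
    (Subgroup.isComplement'_def.1 h)) (e.symm b)
  refine ⟨(⟨e x.1, ⟨x.1, x.1.2, rfl⟩⟩, ⟨e x.2, ⟨x.2, x.2.2, rfl⟩⟩), ?_, ?_⟩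
  · show e x.1 * e x.2 = b
    rw [← map_mul, hx, e.apply_symm_apply]
  · rintro ⟨⟨_, y1, hy1, rfl⟩, ⟨_, y2, hy2, rfl⟩⟩ hy
    have h1 : e y1 * e y2 = b := hy
    have h2 : y1 * y2 = e.symm b := by rw [← h1, ← map_mul, e.symm_apply_apply]
    have h3 := hu (⟨y1, hy1⟩, ⟨y2, hy2⟩) h2
    have h4 : y1 = x.1 := congrArg (fun z : E × K => (z.1 : A)) h3
    have h5 : y2 = x.2 := congrArg (fun z : E × K => (z.2 : A)) h3
    refine Prod.ext (Subtype.ext ?_) (Subtype.ext ?_)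
    · show e y1 = e x.1
      rw [h4]
    · show e y2 = e x.2
      rw [h5]

theorem NS.map {A : Type u} {B : Type v} [Group A] [Group B] (e : A ≃* B) (h : NS A) : NS B := by
  obtain ⟨E, hE, ⟨h1, h1'⟩, h2, ⟨q⟩, h3⟩ := h
  have hN : (E.map e.toMonoidHom).Normal := hE.map _ e.surjective
  refine ⟨E.map e.toMonoidHom, hN, ⟨⟨⟨?_⟩⟩, ?_⟩, ?_, ?_, ?_⟩
  · rintro ⟨_, a, ha, rfl⟩ ⟨_, b, hb, rfl⟩
    apply Subtype.ext
    show e a * e b = e b * e a
    have h4 : (⟨a, ha⟩ : E) * ⟨b, hb⟩ = ⟨b, hb⟩ * ⟨a, ha⟩ := h1.is_comm.comm _ _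
    rw [← map_mul, ← map_mul]
    exact congrArg e (congrArg Subtype.val h4)
  · rintro _ ⟨a, ha, rfl⟩
    show (e a) ^ 2 = 1
    rw [← map_pow, h1' a ha, map_one]
  · rw [← h2]
    exact (Nat.card_congr (E.equivMapOfInjective e.toMonoidHom e.injective).toEquiv).symm
  · exact ⟨(QuotientGroup.congr E (E.map e.toMonoidHom) e rfl).symm.trans q⟩
  · intro K hK
    apply h3 (K.map e.symm.toMonoidHom)
    have h4 := isComplement'_map e.symm hK
    have h5 : (E.map e.toMonoidHom).map e.symm.toMonoidHom = E := by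
      rw [Subgroup.map_map]
      have h6 : e.symm.toMonoidHom.comp e.toMonoidHom = MonoidHom.id A := by
        ext x
        exact e.symm_apply_apply x
      rw [h6, Subgroup.map_id]
    rwa [h5] at h4

end Cfsg.Agent.H858.Trans5
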