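import Cfsg.Agent.H858.NormL
import Cfsg.Agent.H858.KTwo
import Cfsg.Agent.H858.Trans5

/-!
# The maximal 2-local subgroup `2^{3+12}.(S_5 × L_3(2))` of `J4`
-/

set_option autoImplicit false

open Cfsg
open scoped commutatorElement

namespace Cfsg.Agent.H858.MLoc

open Cfsg.Agent.Lib.F2MatGroup
open Cfsg.Agent.J4.Rep112 Cfsg.Agent.J4.Pres Cfsg.Agent.J4.M24Hom
open Cfsg.Agent.J4.Beta Cfsg.Agent.J4.Classes
open Cfsg.Agent.H858.VK Cfsg.Agent.H858.Data Cfsg.Agent.H858.Elem Cfsg.Agent.H858.Pent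
open Cfsg.Agent.H858.Norm57 Cfsg.Agent.H858.Abs Cfsg.Agent.StdL2.G23Aut Cfsg.Agent.H858.Loc7
open Cfsg.Agent.H858.Loc5 Cfsg.Agent.H858.LGrp Cfsg.Agent.H858.NormL Cfsg.Agent.H858.KTwo

/-- the group `Spor.J4` -/
local notation "𝒢" => Cfsg.Spor.J4

/-- the normalizer of `L` -/
local notation "𝓜" => Subgroup.normalizer (L : Set Cfsg.Spor.J4)

section hs

variable (hs : Nat.card (Subgroup.centralizer ({Cfsg.Agent.J4.Invol.s} : Set 𝒢)) = 21799895040)

include hs

theorem W_eq : W = Subgroup.normalizer (L : Set 𝒢) ∧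
    Subgroup.normalizer (L : Set 𝒢) = Subgroup.normalizer (Z : Set 𝒢) := by
  have h1 := card_NZ_eq hs
  have h2 := Nat.le_of_dvd Nat.card_pos dvd_card_W
  have h3 := Subgroup.card_le_of_le W_le
  have h4 := Subgroup.card_le_of_le NL_le_NZ
  refine ⟨Subgroup.eq_of_le_of_card_ge W_le (by omega),
    Subgroup.eq_of_le_of_card_ge NL_le_NZ (by omega)⟩

theorem card_NL : Nat.card (Subgroup.normalizer (L : Set 𝒢)) = 660602880 := by
  rw [(W_eq hs).2, card_NZ_eq hs]

end hs

/-! ### The five vectors -/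

theorem K_PS {k : M24} (hk : k ∈ Cfsg.Agent.J4.TrioAll.K) : phi k ∈ PS := by
  unfold Cfsg.Agent.J4.TrioAll.K at hk
  induction hk using Subgroup.closure_induction with
  | mem k hk =>
    rcases hk with rfl | rfl
    · show phi XM ∈ PS
      rw [phi_X]
      exact ⟨_, act_x⟩
    · exact ⟨_, act_z⟩
  | one => rw [map_one]; exact PS.one_mem
  | mul a b _ _ h1 h2 => rw [map_mul]; exact PS.mul_mem h1 h2
  | inv a _ h1 => rw [map_inv]; exact PS.inv_mem h1

theorem W_le_PS : W ≤ PS := by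
  unfold W X0
  refine sup_le (sup_le ?_ ?_) ?_
  · intro x hx
    obtain ⟨v, -, rfl⟩ := Data.mem_EJ.1 hx
    exact ⟨_, act_V v⟩
  · rintro _ ⟨k, hk, rfl⟩
    exact K_PS hk
  · rw [Subgroup.zpowers_le]
    exact ⟨_, act_t⟩

theorem act_zu {a : ℕ} (ha : a ∈ zu) : Act (V a) 1 := by
  have h : ∀ a ∈ zu, beta lP a = 1 := by decide +kernel
  have h1 := act_V a
  rwa [h a ha] at h1

/-- the elements acting trivially on the five vectors -/
noncomputable def PK : Subgroup 𝒢 where
  carrier := {x | Act x 1}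
  one_mem' := Act.one
  mul_mem' := by
    intro x y hx hy
    have := Act.mul hx hy
    rwa [one_mul] at this
  inv_mem' := by
    intro x hx
    have := Act.inv hx
    rwa [inv_one] at this

theorem act_L {x : 𝒢} (hx : x ∈ L) : Act x 1 := by
  have h1 : L ≤ PK := by
    refine sup_le (span_le (fun a ha => act_zu ha)) ?_
    unfold T6
    rw [Subgroup.map_le_iff_le_comap]
    apply span_le
    intro a ha
    have h : ∀ a ∈ ul, a ∈ zu := by decide
    have h2 := (act_t.mul (act_zu (h a ha))).mul act_t.inv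
    have h3 : Equiv.swap (0 : Fin 5) 1 * 1 * (Equiv.swap 0 1)⁻¹ = 1 := by group
    rw [h3] at h2
    exact h2
  exact h1 hx

/-! ### The homomorphism -/

/-- the homomorphism onto `S_5 × L_3(2)` -/
noncomputable def π (h1 : Subgroup.normalizer (L : Set 𝒢) ≤ PS) :
    Subgroup.normalizer (L : Set 𝒢) →* Equiv.Perm (Fin 5) × MulAut Z :=
  (p5.comp (Subgroup.inclusion h1)).prod (πZ.comp (Subgroup.inclusion NL_le_NZ))

variable {h1 : Subgroup.normalizer (L : Set 𝒢) ≤ PS}

theorem π_fst {x : Subgroup.normalizer (L : Set 𝒢)} {σ : Equiv.Perm (Fin 5)} (h : Act x σ) :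
    (π h1 x).1 = σ := p5_eq h

theorem π_snd {x : Subgroup.normalizer (L : Set 𝒢)}
    (h : (x : 𝒢) ∈ Subgroup.centralizer (Z : Set 𝒢)) : (π h1 x).2 = 1 := by
  have h4 : (Subgroup.inclusion NL_le_NZ x) ∈ πZ.ker := by
    unfold πZ
    rw [Subgroup.normalizerMonoidHom_ker, Subgroup.mem_subgroupOf]
    exact h
  exact h4

theorem I0_le_NL : I0 ≤ Subgroup.normalizer (L : Set 𝒢) := by
  refine le_trans ?_ W_le
  unfold I0
  rw [Subgroup.closure_le]
  rintro _ (rfl | rfl)
  · exact f_W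
  · exact t_W

theorem J_le_NL : J ≤ Subgroup.normalizer (L : Set 𝒢) := by
  refine le_trans ?_ W_le
  unfold J
  rw [Subgroup.closure_le]
  rintro _ (rfl | rfl)
  · exact s_W
  · exact j_W

theorem π_surjective : Function.Surjective (π h1) := by
  rintro ⟨σ, α⟩
  obtain ⟨x, hx⟩ := pI_surjective σ
  obtain ⟨y, hy⟩ := πJ_surjective α
  have ex : π h1 ⟨x, I0_le_NL x.2⟩ = (σ, 1) := by
    apply Prod.ext
    · rw [← hx]
      rfl
    · exact π_snd (I0_le_cent x.2)
  have ey : π h1 ⟨y, J_le_NL y.2⟩ = (1, α) := by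
    apply Prod.ext
    · exact π_fst (act_J y.2)
    · rw [← hy]
      rfl
  refine ⟨⟨x, I0_le_NL x.2⟩ * ⟨y, J_le_NL y.2⟩, ?_⟩
  rw [map_mul, ex, ey, Prod.mk_mul_mk, mul_one, one_mul]

theorem L_le_NL : L ≤ Subgroup.normalizer (L : Set 𝒢) := Subgroup.le_normalizer

theorem L_le_ker : L.subgroupOf (Subgroup.normalizer (L : Set 𝒢)) ≤ (π h1).ker := by
  intro x hx
  rw [Subgroup.mem_subgroupOf] at hx
  rw [MonoidHom.mem_ker]
  exact Prod.ext (π_fst (act_L hx)) (π_snd (L_cent hx))

theorem card_L_subgroupOf :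
    Nat.card (L.subgroupOf (Subgroup.normalizer (L : Set 𝒢))) = 2 ^ 15 := by
  rw [Nat.card_congr (Subgroup.subgroupOfEquivOfLe L_le_NL).toEquiv, card_L]

theorem ker_π (hs : Nat.card (Subgroup.centralizer ({Cfsg.Agent.J4.Invol.s} : Set 𝒢)) =
    21799895040) : (π h1).ker = L.subgroupOf (Subgroup.normalizer (L : Set 𝒢)) := by
  symm
  apply Subgroup.eq_of_le_of_card_ge L_le_ker
  have h2 := (π h1).ker.card_mul_index
  rw [Subgroup.index_ker, MonoidHom.range_eq_top.2 π_surjective, Subgroup.card_top,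
    Nat.card_prod, oct_Z.card_aut, Nat.card_eq_fintype_card (α := Equiv.Perm (Fin 5)),
    Fintype.card_perm, Fintype.card_fin, card_NL hs] at h2
  have h3 : Nat.factorial 5 = 120 := rfl
  rw [h3] at h2
  rw [card_L_subgroupOf]
  omega

/-! ### The quotient -/

theorem equiv_quot (hs : Nat.card (Subgroup.centralizer ({Cfsg.Agent.J4.Invol.s} : Set 𝒢)) =
    21799895040) : Nonempty (Subgroup.normalizer (L : Set 𝒢) ⧸
      L.subgroupOf (Subgroup.normalizer (L : Set 𝒢)) ≃*
      Equiv.Perm (Fin 5) × Matrix.SpecialLinearGroup (Fin 3) (ZMod 2)) := by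
  obtain ⟨e⟩ := equiv_SL
  have h1 : Subgroup.normalizer (L : Set 𝒢) ≤ PS := by rw [← (W_eq hs).1]; exact W_le_PS
  exact ⟨(QuotientGroup.quotientMulEquivOfEq (ker_π (h1 := h1) hs).symm).trans
    ((QuotientGroup.quotientKerEquivOfSurjective (π h1) π_surjective).trans
      (MulEquiv.prodCongr (MulEquiv.refl _) e))⟩

/-! ### No complement -/

theorem le_J {F : Subgroup 𝒢} (hF : F ≤ Subgroup.centralizer (F5 : Set 𝒢))
    (hcard : Nat.card F = 168) : F ≤ J := by
  intro x hx
  obtain ⟨-, -, hcomm, hinf, hsup⟩ := Loc5.directProduct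
  have h1 : x ∈ F5 ⊔ J := by rw [hsup]; exact hF hx
  have hn : J ≤ Subgroup.normalizer (F5 : Set 𝒢) :=
    J_le_C.trans (NormC.centralizer_le_normalizer F5)
  obtain ⟨a, ha, b, hb, rfl⟩ := Abs.exists_mul_of_mem_sup hn h1
  have hab : Commute a b := hcomm a ha b hb
  have h2 : (a * b) ^ 168 = 1 := by
    have h3 : (⟨a * b, hx⟩ : F) ^ 168 = 1 := by rw [← hcard]; exact pow_card_eq_one'
    exact congrArg Subtype.val h3
  rw [hab.mul_pow] at h2
  have h3 : a ^ 168 ∈ F5 ⊓ J := Subgroup.mem_inf.2 ⟨F5.pow_mem ha 168, by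
    rw [eq_inv_of_mul_eq_one_left h2]
    exact J.inv_mem (J.pow_mem hb 168)⟩
  rw [hinf, Subgroup.mem_bot] at h3
  have h4 : a ^ 5 = 1 := by
    have h5 : (⟨a, ha⟩ : F5) ^ 5 = 1 := by rw [← card_F5]; exact pow_card_eq_one'
    exact congrArg Subtype.val h5
  have h5 : a = 1 := by
    have e1 : a ^ 3 = 1 := by
      have e2 : a ^ 168 = (a ^ 5) ^ 33 * a ^ 3 := by rw [← pow_mul, ← pow_add]
      rw [e2, h4, one_pow, one_mul] at h3
      exact h3
    have e3 : a * a ^ 5 = (a ^ 3) ^ 2 := by rw [← pow_mul, ← pow_succ']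
    rw [h4, e1, one_pow, mul_one] at e3
    exact e3
  rw [h5, one_mul]
  exact hb

theorem no_complement (hs : Nat.card (Subgroup.centralizer ({Cfsg.Agent.J4.Invol.s} : Set 𝒢)) =
    21799895040) (K : Subgroup (Subgroup.normalizer (L : Set 𝒢))) :
    ¬ (L.subgroupOf (Subgroup.normalizer (L : Set 𝒢))).IsComplement' K := by
  intro hK
  have : Fact (Nat.Prime 5) := ⟨by norm_num⟩
  have h1 : Subgroup.normalizer (L : Set 𝒢) ≤ PS := by rw [← (W_eq hs).1]; exact W_le_PS
  have hker := ker_π (h1 := h1) hs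
  let πK' : K →* Equiv.Perm (Fin 5) × MulAut Z := (π h1).comp K.subtype
  have hinj : Function.Injective πK' := by
    rw [injective_iff_map_eq_one]
    intro x hx
    have h2 : (x : Subgroup.normalizer (L : Set 𝒢)) ∈
        L.subgroupOf (Subgroup.normalizer (L : Set 𝒢)) ⊓ K :=
      Subgroup.mem_inf.2 ⟨by rw [← hker]; exact hx, x.2⟩
    rw [hK.disjoint.eq_bot, Subgroup.mem_bot] at h2
    exact Subtype.ext h2
  have hcardK : Nat.card K = 20160 := by
    have h2 := hK.card_mul_card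
    rw [card_L_subgroupOf, card_NL hs] at h2
    omega
  have hfin := oct_Z.finite_aut
  have hbij : Function.Bijective πK' := by
    rw [Nat.bijective_iff_injective_and_card]
    refine ⟨hinj, ?_⟩
    rw [hcardK, Nat.card_prod, oct_Z.card_aut, Nat.card_eq_fintype_card (α := Equiv.Perm (Fin 5)),
      Fintype.card_perm, Fintype.card_fin]
    rfl
  obtain ⟨q, hq⟩ := hbij.2 (σf, 1)
  let pr : K →* Equiv.Perm (Fin 5) := (MonoidHom.fst _ _).comp πK'
  have hpr : Function.Surjective pr := Prod.fst_surjective.comp hbij.2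
  have hF0 : Nat.card pr.ker = 168 := by
    have h2 := pr.ker.card_mul_index
    rw [Subgroup.index_ker, MonoidHom.range_eq_top.2 hpr, Subgroup.card_top,
      Nat.card_eq_fintype_card (α := Equiv.Perm (Fin 5)), Fintype.card_perm, Fintype.card_fin,
      hcardK] at h2
    have h3 : Nat.factorial 5 = 120 := rfl
    rw [h3] at h2
    omega
  -- the elements of the kernel commute with `q`
  have hcomm : ∀ x ∈ pr.ker, x * q = q * x := by
    intro x hx
    apply hinj
    rw [map_mul, map_mul, hq]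
    have h2 : (πK' x).1 = 1 := hx
    apply Prod.ext
    · show (πK' x).1 * σf = σf * (πK' x).1
      rw [h2, one_mul, mul_one]
    · show (πK' x).2 * 1 = 1 * (πK' x).2
      rw [one_mul, mul_one]
  have hq1 : q ≠ 1 := by
    intro h
    rw [h, map_one] at hq
    have h2 : (1 : Equiv.Perm (Fin 5)) = σf := congrArg Prod.fst hq
    revert h2
    decide +kernel
  have hq5 : q ^ 5 = 1 := by
    apply hinj
    rw [map_pow, hq, map_one]
    have h2 : σf ^ 5 = 1 := by decide +kernel
    rw [Prod.pow_mk, h2, one_pow]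
    rfl
  -- in the big group
  let ι : K →* 𝒢 := (Subgroup.subtype 𝓜).comp K.subtype
  have hι : Function.Injective ι := Subtype.val_injective.comp Subtype.val_injective
  have hqo : orderOf (ι q) = 5 := by
    apply orderOf_eq_prime
    · rw [← map_pow, hq5, map_one]
    · intro h
      exact hq1 (hι (h.trans (map_one ι).symm))
  have hcq : Nat.card (Subgroup.zpowers (ι q)) = 5 := by rw [Nat.card_zpowers, hqo]
  have hpp : ¬ 5 * 5 ∣ Nat.card 𝒢 := by rw [FixJ4.card_J4]; norm_num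
  have hqM : Subgroup.zpowers (ι q) ≤ 𝓜 := by
    rw [Subgroup.zpowers_le]
    exact (q : 𝓜).2
  have hFM : F5 ≤ 𝓜 := Subgroup.le_normalizer.trans (NF5_le.trans W_le)
  obtain ⟨m, hm, hmq⟩ := Fix.exists_conj hqM hFM (NormC.isPGroup_of_card hcq)
    (NormC.isPGroup_of_card card_F5) (NormC.not_dvd_index hcq hpp)
    (NormC.not_dvd_index card_F5 hpp)
  let κ : K →* 𝒢 := (MulAut.conj m).toMonoidHom.comp ι
  have hκ : Function.Injective κ := (MulAut.conj m).injective.comp hι
  have hF1 : Nat.card (pr.ker.map κ) = 168 := by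
    rw [Subgroup.card_map_of_injective hκ, hF0]
  have hF2 : pr.ker.map κ ≤ Subgroup.centralizer (F5 : Set 𝒢) := by
    rintro _ ⟨x, hx, rfl⟩
    rw [← hmq, MonoidHom.map_zpowers, NormC.centralizer_zpowers, Subgroup.mem_centralizer_iff]
    rintro _ rfl
    have h2 := congrArg κ (hcomm x hx)
    rw [map_mul, map_mul] at h2
    exact h2.symm
  have hF3 := le_J hF2 hF1
  have hF4 : ∀ x ∈ pr.ker.map κ, x ∈ Z → x = 1 := by
    rintro _ ⟨x, hx, rfl⟩ hxZ
    have h2 : m * ι x * m⁻¹ ∈ L := Z_le_L hxZ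
    have h3 : ι x ∈ L := (Subgroup.mem_normalizer_iff.1 hm _).2 h2
    have h4 : (x : 𝓜) ∈ L.subgroupOf 𝓜 ⊓ K :=
      Subgroup.mem_inf.2 ⟨Subgroup.mem_subgroupOf.2 h3, x.2⟩
    rw [hK.disjoint.eq_bot, Subgroup.mem_bot] at h4
    have h5 : x = 1 := Subtype.ext h4
    rw [h5, map_one]
  apply nonsplit_Z ((pr.ker.map κ).subgroupOf J)
  apply Subgroup.isComplement'_of_card_mul_and_disjoint
  · rw [card_Z_subgroupOf, Nat.card_congr (Subgroup.subgroupOfEquivOfLe hF3).toEquiv, hF1, card_J]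
  · rw [disjoint_iff, eq_bot_iff]
    intro x hx
    obtain ⟨h2, h3⟩ := Subgroup.mem_inf.1 hx
    rw [Subgroup.mem_bot]
    exact Subtype.ext (hF4 _ (Subgroup.mem_subgroupOf.1 h3) (Subgroup.mem_subgroupOf.1 h2))

/-! ### `L` is special -/

section special

variable {P : Type*} [Group P]

theorem commutator_le_of_sq {N : Subgroup P} (hN : N.Normal) (h : ∀ x : P, x * x ∈ N) :
    commutator P ≤ N := by
  rw [_root_.commutator_def, Subgroup.commutator_le]
  intro a _ b _
  have e : ⁅a, b⁆ = ((a * b) * (a * b)) * (b⁻¹ * (a * a)⁻¹ * (b⁻¹)⁻¹) * (b * b)⁻¹ := by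
    rw [commutatorElement_def]; group
  rw [e]
  exact N.mul_mem (N.mul_mem (h _) (hN.conj_mem _ (N.inv_mem (h a)) b⁻¹)) (N.inv_mem (h b))

/-- a criterion for special 2-groups -/
theorem isSpecial_of [Finite P] (h2 : IsPGroup 2 P) (hsq : ∀ x : P, x * x ∈ Subgroup.center P)
    (hc : Subgroup.center P ≤ commutator P) : Cfsg.IsSpecial 2 P := by
  have : Fact (Nat.Prime 2) := ⟨by norm_num⟩
  have h1 : commutator P ≤ Subgroup.center P := commutator_le_of_sq inferInstance hsq
  refine ⟨h2, le_antisymm ?_ ?_, le_antisymm h1 hc⟩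
  · exact Cfsg.Agent.Lib.FrattiniBasic.frattini_le_of_elementary (p := 2) _ h1
      (fun x => by rw [pow_two]; exact hsq x)
  · exact hc.trans (Cfsg.Agent.Lib.FrattiniBasic.commutator_le_frattini h2)

/-- the criterion is invariant under isomorphism -/
theorem isSpecial_congr {Q : Type*} [Group Q] [Finite P] (e : P ≃* Q)
    (h : Cfsg.IsSpecial 2 P) : Cfsg.IsSpecial 2 Q := by
  have : Finite Q := Finite.of_equiv P e.toEquiv
  obtain ⟨h1, h2, h3⟩ := h
  have hpg : IsPGroup 2 Q := h1.of_equiv e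
  have hmem : ∀ x : P, x ∈ Subgroup.center P ↔ e x ∈ Subgroup.center Q := by
    intro x
    rw [Subgroup.mem_center_iff, Subgroup.mem_center_iff]
    constructor
    · intro h y
      obtain ⟨y, rfl⟩ := e.surjective y
      rw [← map_mul, h, map_mul]
    · intro h y
      apply e.injective
      rw [map_mul, h, map_mul]
  have : Fact (Nat.Prime 2) := ⟨by norm_num⟩
  apply isSpecial_of hpg
  · intro y
    obtain ⟨x, rfl⟩ := e.surjective y
    rw [← map_mul, ← hmem, ← h2, ← pow_two]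
    exact Cfsg.Agent.Lib.FrattiniBasic.pow_mem_frattini h1 x
  · intro y hy
    obtain ⟨x, rfl⟩ := e.surjective y
    rw [← hmem, ← h3] at hy
    have h4 : e.toMonoidHom x ∈ (commutator P).map e.toMonoidHom := ⟨x, hy, rfl⟩
    rw [_root_.commutator_def, Subgroup.map_commutator] at h4
    rw [_root_.commutator_def]
    refine Subgroup.commutator_mono ?_ ?_ h4 <;> exact le_top

end special

theorem center_eq : Subgroup.center L = Z.subgroupOf L := by
  ext x
  rw [Subgroup.mem_center_iff, Subgroup.mem_subgroupOf]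
  constructor
  · intro h
    apply center_L x.2
    intro y hy
    exact (congrArg Subtype.val (h ⟨y, hy⟩)).symm
  · intro h y
    apply Subtype.ext
    exact (Subgroup.mem_centralizer_iff.1 (L_cent y.2) _ h).symm

theorem card_center : Nat.card (Subgroup.center L) = 8 := by
  rw [center_eq, Nat.card_congr (Subgroup.subgroupOfEquivOfLe Z_le_L).toEquiv, card_Z]

theorem Z_le_commutator : Z ≤ (commutator L).map L.subtype := by
  have key : ∀ i < 6, ∀ k < 6, V ((cm.getD i []).getD k 0) ∈ (commutator L).map L.subtype := by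
    intro i hi k hk
    have h3 : ∀ i < 6, ul.getD i 0 ∈ zu := by decide
    have hV : V (ul.getD i 0) ∈ L := V9_le (V_mem_span (h3 i hi))
    have hT : T (ul.getD k 0) ∈ L := by
      have h5 : ∀ i < 6, ∃ u < 64, lin ul u = ul.getD i 0 := by decide +kernel
      obtain ⟨u, -, hu⟩ := h5 k hk
      rw [← hu]; exact T_mem u
    refine ⟨⁅⟨V (ul.getD i 0), hV⟩, ⟨T (ul.getD k 0), hT⟩⁆,
      Subgroup.commutator_mem_commutator (Subgroup.mem_top _) (Subgroup.mem_top _), ?_⟩
    rw [← comm_VT hi hk, commutatorElement_def]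
    show V (ul.getD i 0) * T (ul.getD k 0) * (V (ul.getD i 0))⁻¹ * (T (ul.getD k 0))⁻¹ = _
    rw [V_inv, T_inv]
  have h1 := key 0 (by norm_num) 3 (by norm_num)
  have h2 := key 0 (by norm_num) 5 (by norm_num)
  have h3 := key 0 (by norm_num) 1 (by norm_num)
  have e1 : ((cm.getD 0 []).getD 3 0) = 165 := rfl
  have e2 : ((cm.getD 0 []).getD 5 0) = 1394 := rfl
  have e3 : ((cm.getD 0 []).getD 1 0) = 1726 := rfl
  rw [e1] at h1
  rw [e2] at h2
  rw [e3] at h3
  apply span_le
  intro a ha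
  unfold zl at ha
  simp only [List.mem_cons, List.not_mem_nil, or_false] at ha
  rcases ha with rfl | rfl | rfl
  · exact h1
  · have e : (873 : ℕ) = 165 ^^^ 1394 ^^^ 1726 := by decide
    rw [e, V_xor, V_xor]
    exact Subgroup.mul_mem _ (Subgroup.mul_mem _ h1 h2) h3
  · exact h2

theorem isSpecial_L : Cfsg.IsSpecial 2 L := by
  apply isSpecial_of (IsPGroup.of_card (n := 15) card_L)
  · intro x
    rw [center_eq, Subgroup.mem_subgroupOf]
    exact L_sq x.2
  · rw [center_eq]
    intro x hx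
    obtain ⟨y, hy, hyx⟩ := Z_le_commutator (Subgroup.mem_subgroupOf.1 hx)
    have h : y = x := Subtype.ext hyx
    rwa [← h]

end Cfsg.Agent.H858.MLoc
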