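import Cfsg.Agent.H282.SK.Def
import Cfsg.Agent.H937.HCM22
import Cfsg.Agent.KFacts.MM.InvM22
import Cfsg.Agent.H858.OdmRowM22

/-!
# TEAM SIDKI (S3010): the row of `M₂₂` (helper858)

`G ≤ D22 = M22.2`. An involution `v ∈ V ∩ M22` inverts an element `x` of order 5; the only involution of `D22`
that commutes with `x` is an outer one, `t`; `t` inverts an element `y` of order 11, and no involution commutes
with `y`.
-/

set_option autoImplicit false

namespace Cfsg.Agent.H858.SidM22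

open Cfsg Subgroup Cfsg.Agent.SporadicA.GolayBase Cfsg.Agent.SporadicA.GolayPerm
open Cfsg.Agent.KFacts.MM.El Cfsg.Agent.KFacts.MM.Sub
open Cfsg.Agent.J4Type.Aut22 (D22 mem_D22_iff M22_le_D22 card_D22 mem_M22_iff_D22)
open Cfsg.Agent.H937.HCM22 (mem_swap mem_fix order_of comm_of A5 B5 A5_mem B5_mem A5_ord B5_ord comm5)
open Cfsg.Agent.H282.SK

universe u

/-- an involution inverting `B5`, an element of order 11 inverted by `A5` -/
def Z5 : ℕ := 976607671605327482668242317735039008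
def Y11 : ℕ := 962280044598510232665964407919554848

theorem Z5_ok : isPerm Z5 = true ∧ isAut Z5 = true ∧ papp Z5 23 = 23 ∧ papp Z5 0 = 0 := by decide +kernel
theorem Y11_ok : isPerm Y11 = true ∧ isAut Y11 = true ∧ papp Y11 23 = 23 ∧ papp Y11 0 = 0 := by decide +kernel
theorem B5_ok : isPerm B5 = true ∧ isAut B5 = true ∧ papp B5 23 = 23 ∧ papp B5 0 = 0 := by decide +kernel

theorem mem22 {P : ℕ} (h : isPerm P = true ∧ isAut P = true ∧ papp P 23 = 23 ∧ papp P 0 = 0) :
    pm P ∈ Spor.M22 := by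
  rw [mem_M22_iff_D22]
  refine ⟨mem_fix h.1 h.2.1 h.2.2.1 h.2.2.2, ?_⟩
  have h5 := val_pm h.1 (i := 23) (by norm_num)
  rw [h.2.2.1] at h5
  have h6 := pt_val (pm P) 23
  rw [h5] at h6
  exact h6.symm

theorem eq_of {P Q R S : ℕ} (hP : isPerm P = true) (hQ : isPerm Q = true) (hR : isPerm R = true)
    (hS : isPerm S = true) (h : weq [P, Q] [R, S] = true) : pm P * pm Q = pm R * pm S := by
  have h3 := pr_of_weq (okl2 hP hQ) (okl2 hR hS) h
  simpa [pr] using h3

theorem one_of {l : List ℕ} (hl : okl l = true) (h : weq l [] = true) : pr l = 1 := by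
  rw [pr_of_weq hl rfl h, pr_nil]

theorem Z5_sq : pm Z5 * pm Z5 = 1 := by
  have := one_of (l := [Z5, Z5]) (by decide +kernel) (by decide +kernel)
  simpa [pr] using this

theorem Z5_ne : pm Z5 ≠ 1 := by
  rw [← pr_one, ← pr_nil]
  exact pr_ne (okl1 Z5_ok.1) rfl (by decide +kernel)

/-- `Z5 * B5 * Z5 * B5 = 1` -/
theorem Z5_inv : pm Z5 * pm B5 * (pm Z5)⁻¹ = (pm B5)⁻¹ := by
  have h := one_of (l := [Z5, B5, Z5, B5]) (by decide +kernel) (by decide +kernel)
  have h1 : pm Z5 * (pm B5 * (pm Z5 * pm B5)) = 1 := by simpa [pr] using h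
  have h2 : (pm Z5)⁻¹ = pm Z5 := inv_eq_of_mul_eq_one_left Z5_sq
  rw [h2, eq_inv_iff_mul_eq_one]
  simpa [mul_assoc] using h1

theorem Y11_ord : orderOf (pm Y11) = 11 :=
  order_of Y11_ok.1 (by norm_num) [Y11, Y11, Y11, Y11, Y11, Y11, Y11, Y11, Y11, Y11, Y11] (by decide +kernel)
    (by simp [pr, pow_succ, mul_assoc]) (by decide +kernel) (by decide +kernel)

theorem A5_perm : isPerm A5 = true := by decide +kernel

theorem A5_sq : pm A5 * pm A5 = 1 := by
  rw [← pow_two, ← A5_ord, pow_orderOf_eq_one]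

theorem A5_not : pm A5 ∉ Spor.M22 := by
  intro h
  rw [mem_M22_iff_D22] at h
  have h5 := val_pm A5_perm (i := 23) (by norm_num)
  have h6 := pt_val (pm A5) 23
  rw [h5] at h6
  have h7 : pt (papp A5 23) = pt 23 := by rw [h6]; exact h.2
  exact absurd h7 (by decide +kernel)

/-- `A5 * Y11 * A5 * Y11 = 1` -/
theorem A5_inv : pm A5 * pm Y11 * (pm A5)⁻¹ = (pm Y11)⁻¹ := by
  have h := one_of (l := [A5, Y11, A5, Y11]) (by decide +kernel) (by decide +kernel)
  have h1 : pm A5 * (pm Y11 * (pm A5 * pm Y11)) = 1 := by simpa [pr] using h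
  have h2 : (pm A5)⁻¹ = pm A5 := inv_eq_of_mul_eq_one_left A5_sq
  rw [h2, eq_inv_iff_mul_eq_one]
  simpa [mul_assoc] using h1

/-! ### centralizers in `M22` -/

open Cfsg.Agent.H858.OdmRowM22 (card_cent_all)

theorem fin22 : Finite Spor.M22 := Nat.finite_of_card_ne_zero (by rw [H968.TwoM22.three.card]; norm_num)

theorem c5 (x : Spor.M22) (hx : orderOf x = 5) : Nat.card (centralizer ({x} : Set Spor.M22)) = 5 := by
  have := fin22
  obtain ⟨x₀, hx₀, hc₀⟩ := H348.PPD.RowM22.cent5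
  rw [card_cent_all (n := 88704) (by norm_num) H968.TwoM22.three.card (by norm_num) hx₀ hx, hc₀]

theorem c11 (x : Spor.M22) (hx : orderOf x = 11) : Nat.card (centralizer ({x} : Set Spor.M22)) = 11 := by
  have := fin22
  obtain ⟨x₀, hx₀, hc₀⟩ := H968.TwoM22.three.eleven
  rw [card_cent_all (n := 40320) (by norm_num) H968.TwoM22.three.card (by norm_num) hx₀ hx]
  refine le_antisymm hc₀ ?_
  have h1 : zpowers x₀ ≤ centralizer ({x₀} : Set Spor.M22) := zpowers_le.2 (mem_centralizer_singleton_iff.2 rfl)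
  have h2 := Subgroup.card_le_of_le h1
  rwa [Nat.card_zpowers, hx₀] at h2

theorem n11 (x : Spor.M22) (hx : orderOf x = 11) :
    Nat.card (normalizer ((zpowers x : Subgroup Spor.M22) : Set Spor.M22)) = 11 * 5 := by
  have := fin22
  exact H217.Odm.norm_of_self_cent (n := 40320) (by norm_num) H968.TwoM22.three.card (by norm_num) hx (c11 x hx)

/-- elements of `M22` commuting with an element of order `p` with centralizer of order `p` -/
theorem pow_eq_one {p : ℕ} {x : Spor.M22} (hc : Nat.card (centralizer ({x} : Set Spor.M22)) = p) {c : Spor.M22}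
    (h : Commute c x) : c ^ p = 1 := by
  have h1 : c ∈ centralizer ({x} : Set Spor.M22) := mem_centralizer_singleton_iff.2 h
  have h2 := Subgroup.orderOf_dvd_natCard _ h1
  rw [hc] at h2
  exact orderOf_dvd_iff_pow_eq_one.1 h2

theorem ne_of_odd {G : Type*} [Group G] {a : G} (h2 : a * a = 1) {p : ℕ} (hp : Odd p) (h : a ^ p = 1) : a = 1 := by
  obtain ⟨k, rfl⟩ := hp
  rw [pow_succ, pow_mul, pow_two, h2, one_pow, one_mul] at h
  exact h

/-- the product of two outer elements -/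
theorem mul_mem22 {a b : Equiv.Perm GolayPt} (ha : a ∈ D22) (hb : b ∈ D22) (ha' : a ∉ Spor.M22) (hb' : b ∉ Spor.M22) :
    a * b ∈ Spor.M22 := by
  rw [mem_M22_iff_D22] at ha' hb' ⊢
  have ha1 := ((mem_D22_iff a).1 ha).2
  have hb1 := ((mem_D22_iff b).1 hb).2
  refine ⟨D22.mul_mem ha hb, ?_⟩
  have h1 : b none = some 0 := by
    rcases hb1 with h | h
    · exact absurd ⟨hb, h.1⟩ hb'
    · exact h.1
  have h2 : a (some 0) = none := by
    rcases ha1 with h | h
    · exact absurd ⟨ha, h.1⟩ ha'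
    · exact h.2
  rw [Equiv.Perm.mul_apply, h1, h2]

/-- The only involution of `D22` commuting with `B5` is `A5`. -/
theorem eq_A5 {a : Equiv.Perm GolayPt} (ha : a ∈ D22) (h2 : a * a = 1) (h1 : a ≠ 1) (hc : Commute a (pm B5)) :
    a = pm A5 := by
  have hb := mem22 B5_ok
  have hbo : orderOf (⟨pm B5, hb⟩ : Spor.M22) = 5 := by rw [Subgroup.orderOf_mk]; exact B5_ord
  by_cases h : a ∈ Spor.M22
  · exfalso
    apply h1
    have h3 := pow_eq_one (c5 _ hbo) (c := ⟨a, h⟩) (Subtype.ext hc)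
    have h4 : a ^ 5 = 1 := congrArg Subtype.val h3
    exact ne_of_odd h2 (by decide) h4
  · have hm := mul_mem22 ha A5_mem h A5_not
    have hcm : Commute (a * pm A5) (pm B5) := hc.mul_left comm5
    have h3 := pow_eq_one (c5 _ hbo) (c := ⟨a * pm A5, hm⟩) (Subtype.ext hcm)
    have h4 : (a * pm A5) ^ 5 = 1 := congrArg Subtype.val h3
    -- `a * A5` is a power of `B5`, so commutes with `A5`
    have h5 : (⟨a * pm A5, hm⟩ : Spor.M22) ∈ zpowers (⟨pm B5, hb⟩ : Spor.M22) := by
      have h6 : zpowers (⟨pm B5, hb⟩ : Spor.M22) = centralizer ({(⟨pm B5, hb⟩ : Spor.M22)} : Set Spor.M22) := by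
        have := fin22
        apply Subgroup.eq_of_le_of_card_ge (zpowers_le.2 (mem_centralizer_singleton_iff.2 rfl))
        rw [c5 _ hbo, Nat.card_zpowers, hbo]
      rw [h6, mem_centralizer_singleton_iff]
      exact Subtype.ext hcm
    obtain ⟨k, hk⟩ := mem_zpowers_iff.1 h5
    have hk' : (pm B5) ^ k = a * pm A5 := congrArg Subtype.val hk
    have h6 : Commute (a * pm A5) (pm A5) := by
      rw [← hk']
      exact (comm5.symm).zpow_left k
    have h7 : Commute a (pm A5) := by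
      have h8 : a = (a * pm A5) * pm A5 := by rw [mul_assoc, A5_sq, mul_one]
      rw [h8]
      exact h6.mul_left (Commute.refl _)
    have h8 : (a * pm A5) * (a * pm A5) = 1 := by
      calc (a * pm A5) * (a * pm A5) = a * (pm A5 * a) * pm A5 := by group
        _ = a * (a * pm A5) * pm A5 := by rw [h7.eq]
        _ = (a * a) * (pm A5 * pm A5) := by group
        _ = 1 := by rw [h2, A5_sq, mul_one]
    have h9 := ne_of_odd h8 (by decide) h4
    rw [mul_eq_one_iff_eq_inv] at h9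
    rw [h9]
    exact inv_eq_of_mul_eq_one_left A5_sq

/-- No involution of `D22` commutes with `Y11`. -/
theorem not_comm {a : Equiv.Perm GolayPt} (ha : a ∈ D22) (h2 : a * a = 1) (h1 : a ≠ 1) (hc : Commute a (pm Y11)) :
    False := by
  have hb := mem22 Y11_ok
  have hbo : orderOf (⟨pm Y11, hb⟩ : Spor.M22) = 11 := by rw [Subgroup.orderOf_mk]; exact Y11_ord
  by_cases h : a ∈ Spor.M22
  · apply h1
    have h3 := pow_eq_one (c11 _ hbo) (c := ⟨a, h⟩) (Subtype.ext hc)
    have h4 : a ^ 11 = 1 := congrArg Subtype.val h3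
    exact ne_of_odd h2 (by decide) h4
  · have hm := mul_mem22 ha A5_mem h A5_not
    set c : Spor.M22 := ⟨a * pm A5, hm⟩ with hcdef
    set y : Spor.M22 := ⟨pm Y11, hb⟩ with hy
    have hinv : c * y * c⁻¹ = y⁻¹ := by
      apply Subtype.ext
      show a * pm A5 * pm Y11 * (a * pm A5)⁻¹ = (pm Y11)⁻¹
      calc a * pm A5 * pm Y11 * (a * pm A5)⁻¹ = a * (pm A5 * pm Y11 * (pm A5)⁻¹) * a⁻¹ := by group
        _ = a * (pm Y11)⁻¹ * a⁻¹ := by rw [A5_inv]
        _ = (pm Y11)⁻¹ := by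
          rw [mul_inv_eq_iff_eq_mul]
          exact hc.inv_right.eq
    have hpow : ∀ n : ℕ, c ^ n * y * (c ^ n)⁻¹ = y ^ ((-1 : ℤ) ^ n) := by
      intro n
      induction n with
      | zero => simp
      | succ n ih =>
        calc c ^ (n + 1) * y * (c ^ (n + 1))⁻¹ = c ^ n * (c * y * c⁻¹) * (c ^ n)⁻¹ := by rw [pow_succ]; group
          _ = (c ^ n * y * (c ^ n)⁻¹)⁻¹ := by rw [hinv]; group
          _ = _ := by rw [ih, ← zpow_neg, pow_succ, mul_neg_one]
    have hcn : c ∈ normalizer ((zpowers y : Subgroup Spor.M22) : Set Spor.M22) := by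
      rw [mem_normalizer_iff]
      have hz : ∀ k : ℤ, c * y ^ k * c⁻¹ = y ^ (-k) := by
        intro k
        rw [← conj_zpow, hinv, inv_zpow']
      intro w
      constructor
      · intro hw
        obtain ⟨k, rfl⟩ := mem_zpowers_iff.1 hw
        rw [hz]
        exact ⟨-k, rfl⟩
      · intro hw
        obtain ⟨k, hk⟩ := mem_zpowers_iff.1 hw
        have e1 : c * w * c⁻¹ = c * y ^ (-k) * c⁻¹ := by rw [hz, neg_neg, hk]
        rw [mul_left_cancel (mul_right_cancel e1)]
        exact ⟨-k, rfl⟩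
    have hd := Subgroup.orderOf_dvd_natCard _ hcn
    rw [n11 y hbo] at hd
    have h55 : c ^ 55 = 1 := orderOf_dvd_iff_pow_eq_one.1 hd
    have h3 := hpow 55
    rw [h55, one_mul, inv_one, mul_one, show ((-1 : ℤ)) ^ 55 = -1 by norm_num, zpow_neg_one] at h3
    have h4 : y * y = 1 := by
      nth_rewrite 1 [h3]
      exact inv_mul_cancel y
    have h5 := orderOf_dvd_of_pow_eq_one (show y ^ 2 = 1 by rw [pow_two]; exact h4)
    rw [hbo] at h5
    norm_num at h5

/-! ### the row -/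

theorem dead_m22 : DeadS.{u} (fun K _ => Spor.IsoM22 K) := by
  intro G _ _ V K h hK
  haveI := h.norm
  obtain ⟨ι, hi, hr, hι⟩ := Cfsg.Agent.KFacts.MM.OutAut.exists_iota hK
  set φ : G →* MulAut K := MulAut.conjNormal with hφ
  have hφi : Function.Injective φ := by
    refine (injective_iff_map_eq_one _).2 fun g hg => ?_
    apply h.eq_one_of_comm
    intro k hk
    have h3 : (φ g : MulAut K) ⟨k, hk⟩ = ⟨k, hk⟩ := by rw [hg]; rfl
    have h4 := congrArg Subtype.val h3
    rw [hφ, MulAut.conjNormal_apply] at h4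
    calc g * k = g * k * g⁻¹ * g := by group
      _ = k * g := by rw [h4]
  set θ : G →* Equiv.Perm GolayPt := ι.comp φ with hθ
  have hθi : Function.Injective θ := hi.comp hφi
  have hD : ∀ g : G, θ g ∈ D22 := fun g => by rw [← hr]; exact ⟨φ g, rfl⟩
  have hk : ∀ k ∈ K, θ k ∈ Spor.M22 := by
    intro k hk
    have h1 : φ k ∈ (Spor.M22).comap ι := by
      rw [hι]
      refine ⟨⟨k, hk⟩, ?_⟩
      ext z
      rw [MulAut.conj_apply, hφ, MulAut.conjNormal_apply]
      rfl
    exact h1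
  have hs : ∀ m ∈ Spor.M22, ∃ k ∈ K, θ k = m := by
    intro m hm
    have h1 : m ∈ ι.range := by rw [hr]; exact M22_le_D22 hm
    obtain ⟨α, rfl⟩ := h1
    have h2 : α ∈ (Spor.M22).comap ι := hm
    rw [hι] at h2
    obtain ⟨k, rfl⟩ := h2
    refine ⟨k, k.2, ?_⟩
    show ι (φ (k : G)) = _
    congr 1
    ext z
    rw [MulAut.conj_apply, hφ, MulAut.conjNormal_apply]
    rfl
  have hin : ∀ g : G, θ g ∈ Spor.M22 → g ∈ K := by
    intro g hg
    obtain ⟨k, hk, e⟩ := hs _ hg
    rwa [← hθi e]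
  -- an involution in `V ∩ K`
  obtain ⟨v, hvV, hv1, hvK⟩ : ∃ v ∈ V, v ≠ 1 ∧ v ∈ K := by
    by_contra hcon
    push Not at hcon
    have hmul : ∀ a ∈ V, ∀ b ∈ V, a ≠ 1 → b ≠ 1 → a = b := by
      intro a ha b hb ha1 hb1
      by_contra hab
      have h1 : θ (a * b) ∈ Spor.M22 := by
        rw [map_mul]
        exact mul_mem22 (hD a) (hD b) (fun hx => hcon a ha ha1 (hin a hx)) (fun hx => hcon b hb hb1 (hin b hx))
      refine hcon (a * b) (V.mul_mem ha hb) ?_ (hin _ h1)
      intro h2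
      apply hab
      rw [mul_eq_one_iff_eq_inv, h.inv_eq hb] at h2
      exact h2
    have hle : Nat.card V ≤ 2 := by
      by_cases hne : ∃ a ∈ V, a ≠ 1
      · obtain ⟨a, ha, ha1⟩ := hne
        have h1 : (V : Set G) ⊆ {1, a} := by
          intro b hb
          by_cases hb1 : b = 1
          · exact Or.inl hb1
          · exact Or.inr (hmul b hb a ha hb1 ha1)
        have h2 := Set.ncard_le_ncard h1 (by simp)
        have h3 : ({1, a} : Set G).ncard ≤ 2 := Set.ncard_insert_le _ _ |>.trans (by simp)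
        have h4 : (V : Set G).ncard = Nat.card V := Nat.card_coe_set_eq _
        omega
      · push Not at hne
        have h1 : V = ⊥ := by rw [eq_bot_iff]; intro b hb; exact hne b hb
        rw [h1, card_bot]
        norm_num
    have := h.card
    omega
  -- conjugate `v` to `Z5`
  obtain ⟨g1, hg1, e1⟩ := KFacts.MM.InvM22.inv22 (θ v) (hk v hvK) (by rw [← map_mul, h.sq hvV, map_one])
    (fun h1 => hv1 (hθi (h1.trans (map_one θ).symm)))
  obtain ⟨g2, hg2, e2⟩ := KFacts.MM.InvM22.inv22 (pm Z5) (mem22 Z5_ok) Z5_sq Z5_ne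
  obtain ⟨k, hkK, ek⟩ := hs (g2 * g1⁻¹) (Spor.M22.mul_mem hg2 (Spor.M22.inv_mem hg1))
  have ev : θ (k * v * k⁻¹) = pm Z5 := by
    rw [map_mul, map_mul, map_inv, ek, e1, e2]
    group
  obtain ⟨x0, hx0, ex0⟩ := hs (pm B5) (mem22 B5_ok)
  obtain ⟨y0, hy0, ey0⟩ := hs (pm Y11) (mem22 Y11_ok)
  have hord : ∀ (z : G), orderOf (k⁻¹ * z * k) = orderOf z := by
    intro z
    have := orderOf_injective (MulAut.conj k⁻¹).toMonoidHom (MulAut.conj k⁻¹).injective z
    simpa using this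
  have hox : orderOf x0 = 5 := by rw [← orderOf_injective θ hθi, ex0, B5_ord]
  have hoy : orderOf y0 = 11 := by rw [← orderOf_injective θ hθi, ey0, Y11_ord]
  have hconj : ∀ a z : G, k * a * k⁻¹ * z * (k * a * k⁻¹)⁻¹ = z⁻¹ → a * (k⁻¹ * z * k) * a⁻¹ = (k⁻¹ * z * k)⁻¹ := by
    intro a z hz
    calc a * (k⁻¹ * z * k) * a⁻¹ = k⁻¹ * (k * a * k⁻¹ * z * (k * a * k⁻¹)⁻¹) * k := by group
      _ = k⁻¹ * z⁻¹ * k := by rw [hz]
      _ = _ := by group
  have hcomm : ∀ a z : G, Commute a (k⁻¹ * z * k) → Commute (k * a * k⁻¹) z := by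
    intro a z hz
    have e : a * (k⁻¹ * z * k) = (k⁻¹ * z * k) * a := hz
    show k * a * k⁻¹ * z = z * (k * a * k⁻¹)
    calc k * a * k⁻¹ * z = k * (a * (k⁻¹ * z * k)) * k⁻¹ := by group
      _ = k * ((k⁻¹ * z * k) * a) * k⁻¹ := by rw [e]
      _ = _ := by group
  -- `v` inverts `x`
  obtain ⟨w, hwV, hw1, hwc⟩ := h.t0 (v := v) (x := k⁻¹ * x0 * k) hvV (by rw [hord, hox]; decide) (by
    apply hconj
    apply hθi
    rw [map_mul, map_mul, map_inv, ev, ex0, map_inv, ex0]
    exact Z5_inv)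
  have hw : θ (k * w * k⁻¹) = pm A5 := by
    refine eq_A5 (hD _) ?_ ?_ ?_
    · rw [← map_mul]
      have : k * w * k⁻¹ * (k * w * k⁻¹) = k * (w * w) * k⁻¹ := by group
      rw [this, h.sq hwV]
      simp
    · intro h1
      apply hw1
      have h2 : k * w * k⁻¹ = 1 := hθi (h1.trans (map_one θ).symm)
      have : w = k⁻¹ * (k * w * k⁻¹) * k := by group
      rw [this, h2]; group
    · rw [← ex0]
      exact (hcomm w x0 hwc).map θ
  obtain ⟨w2, hw2V, hw21, hw2c⟩ := h.t0 (v := w) (x := k⁻¹ * y0 * k) hwV (by rw [hord, hoy]; decide) (by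
    apply hconj
    apply hθi
    rw [map_mul, map_mul, map_inv, hw, ey0, map_inv, ey0]
    exact A5_inv)
  refine not_comm (a := θ (k * w2 * k⁻¹)) (hD _) ?_ ?_ ?_
  · rw [← map_mul]
    have : k * w2 * k⁻¹ * (k * w2 * k⁻¹) = k * (w2 * w2) * k⁻¹ := by group
    rw [this, h.sq hw2V]
    simp
  · intro h1
    apply hw21
    have h2 : k * w2 * k⁻¹ = 1 := hθi (h1.trans (map_one θ).symm)
    have : w2 = k⁻¹ * (k * w2 * k⁻¹) * k := by group
    rw [this, h2]; group
  · rw [← ey0]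
    exact (hcomm w2 y0 hw2c).map θ

end Cfsg.Agent.H858.SidM22
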