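import Cfsg.Agent.H880.ClPsuF
import Cfsg.Agent.H959.Rad3.Iface
import Cfsg.Agent.H307.HermCW

/-!
# `PSU_n(q)`, `n ≥ 4`: automorphisms of order three normalise a nontrivial `r`-subgroup (for helper959)

`exists_isotropic` : an isometry `T` of the hermitian space of dimension `n ≥ 4` with `T ^ 3` a scalar has a nonzero
vector `v` with `(v, v) = (v, T v) = 0` (Chevalley-Warning), hence `⟨v, T v, T² v⟩` is totally isotropic.
`fixAt_psu`.
-/

set_option autoImplicit false

namespace Cfsg.Agent.H858.FixPsu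

open Matrix Subgroup Module Cfsg Cfsg.Agent.H459.Rad Cfsg.Agent.H459.Iface Cfsg.Agent.H880.Cl
open Cfsg.Agent.LieClassical.HermBasic Cfsg.Agent.LieClassical.HermSiegel
open Cfsg.Agent.ClassicalGeometry.PSUAutBasic Cfsg.Agent.ClassicalGeometry.HermOrtho
open Cfsg.Agent.ClassicalGeometry.PSUAutCount (toAut gm gm_mul gm_one gm_mul_inv gm_inv_mul semiConj guConj act_guConj
  herm_gm gm_inv_mulVec gm_mulVec_inv herm_map gm_inj)

variable {F : Type*} [Field F] [Fintype F] {q n : ℕ}

/-- the sesquilinear form `(v, T v)` as a value of `qf` -/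
theorem herm_mulVec (hF : Fintype.card F = q ^ 2) (T : Matrix (Fin n) (Fin n) F) (v : Fin n → F) :
    hermForm n F q v (T *ᵥ v) = H307.HermCW.qf q (fun i j => T i j ^ q) v := by
  rw [herm_def]
  unfold H307.HermCW.qf
  refine Finset.sum_congr rfl fun i _ => ?_
  have h1 : (T *ᵥ v) i = ∑ j, T i j * v j := rfl
  rw [h1, H307.HermCW.sum_pow_q hF, Finset.mul_sum]
  refine Finset.sum_congr rfl fun j _ => ?_
  rw [mul_pow]
  ring

theorem qf_conj (hF : Fintype.card F = q ^ 2) (M : Fin n → Fin n → F) (v : Fin n → F) :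
    H307.HermCW.qf q (fun i j => M j i ^ q) v = H307.HermCW.qf q M v ^ q := by
  unfold H307.HermCW.qf
  rw [H307.HermCW.sum_pow_q hF, Finset.sum_comm]
  refine Finset.sum_congr rfl fun i _ => ?_
  rw [H307.HermCW.sum_pow_q hF]
  refine Finset.sum_congr rfl fun j _ => ?_
  rw [mul_pow, mul_pow, H307.HermCW.pow_q_q hF]
  ring

/-- **A vector orthogonal to itself and to its image** (Chevalley-Warning). -/
theorem exists_isotropic (hF : Fintype.card F = q ^ 2) (hn : 4 ≤ n) (T : Matrix (Fin n) (Fin n) F) :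
    ∃ v : Fin n → F, v ≠ 0 ∧ hermForm n F q v v = 0 ∧ hermForm n F q v (T *ᵥ v) = 0 := by
  obtain ⟨θ, hθ⟩ := exists_not_fixed hF
  let S : Fin n → Fin n → F := fun i j => T i j ^ q
  let M : Fin 3 → Fin n → Fin n → F := ![fun i j => if i = j then 1 else 0,
    fun i j => S i j + S j i ^ q, fun i j => θ * S i j + (θ * S j i) ^ q]
  obtain ⟨v, hv0, hv⟩ := H307.HermCW.exists_common hF M (by
    intro k i j
    fin_cases k
    · change (if i = j then (1 : F) else 0) ^ q = if j = i then 1 else 0
      by_cases h : i = j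
      · rw [if_pos h, if_pos h.symm, one_pow]
      · rw [if_neg h, if_neg (Ne.symm h), zero_pow_q hF]
    · change (S i j + S j i ^ q) ^ q = S j i + S i j ^ q
      rw [H307.HermCW.add_pow_q hF, H307.HermCW.pow_q_q hF (S j i), add_comm]
    · change (θ * S i j + (θ * S j i) ^ q) ^ q = θ * S j i + (θ * S i j) ^ q
      rw [H307.HermCW.add_pow_q hF, H307.HermCW.pow_q_q hF (θ * S j i), add_comm]) (by
    rw [Fintype.card_fin, Fintype.card_fin]
    omega)
  have h0 := hv 0
  have h1 := hv 1
  have h2 := hv 2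
  set s := H307.HermCW.qf q S v with hs
  have hadd : ∀ N N' : Fin n → Fin n → F, H307.HermCW.qf q (fun i j => N i j + N' i j) v =
      H307.HermCW.qf q N v + H307.HermCW.qf q N' v := by
    intro N N'
    unfold H307.HermCW.qf
    rw [← Finset.sum_add_distrib]
    refine Finset.sum_congr rfl fun i _ => ?_
    rw [← Finset.sum_add_distrib]
    refine Finset.sum_congr rfl fun j _ => ?_
    ring
  have hmul : ∀ (c : F) (N : Fin n → Fin n → F), H307.HermCW.qf q (fun i j => c * N i j) v =
      c * H307.HermCW.qf q N v := by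
    intro c N
    unfold H307.HermCW.qf
    rw [Finset.mul_sum]
    refine Finset.sum_congr rfl fun i _ => ?_
    rw [Finset.mul_sum]
    refine Finset.sum_congr rfl fun j _ => ?_
    ring
  have e1 : s + s ^ q = 0 := by
    rw [hs, ← qf_conj hF, ← hadd]
    exact h1
  have e2 : θ * s + (θ * s) ^ q = 0 := by
    rw [hs, ← hmul, ← qf_conj hF, ← hadd]
    exact h2
  have hs0 : s = 0 := by
    rw [mul_pow] at e2
    have h3 : (θ - θ ^ q) * s = 0 := by linear_combination e2 - θ ^ q * e1
    rcases mul_eq_zero.1 h3 with h4 | h4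
    · exact absurd (sub_eq_zero.1 h4).symm hθ
    · exact h4
  refine ⟨v, hv0, ?_, ?_⟩
  · rw [herm_def]
    have h3 : H307.HermCW.qf q (fun i j => if i = j then (1 : F) else 0) v = ∑ i, v i * v i ^ q := by
      unfold H307.HermCW.qf
      refine Finset.sum_congr rfl fun i _ => ?_
      rw [Finset.sum_eq_single i]
      · change (if i = i then (1 : F) else 0) * v i * v i ^ q = _
        rw [if_pos rfl, one_mul]
      · intro j _ hj
        change (if i = j then (1 : F) else 0) * v i * v j ^ q = _
        rw [if_neg (Ne.symm hj), zero_mul, zero_mul]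
      · intro h
        exact absurd (Finset.mem_univ i) h
    rw [← h3]
    exact h0
  · rw [herm_mulVec hF]
    exact hs0

theorem span_iso (hF : Fintype.card F = q ^ 2) {X : Set (Fin n → F)}
    (h : ∀ a ∈ X, ∀ b ∈ X, hermForm n F q a b = 0) :
    ∀ a ∈ Submodule.span F X, ∀ b ∈ Submodule.span F X, hermForm n F q a b = 0 := by
  have h1 : ∀ a ∈ X, ∀ b ∈ Submodule.span F X, hermForm n F q a b = 0 := by
    intro a ha b hb
    induction hb using Submodule.span_induction with
    | mem b hb => exact h a ha b hb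
    | zero => rw [herm_zero_right hF]
    | add b c _ _ hb hc => rw [herm_add_right hF, hb, hc, add_zero]
    | smul c b _ hb => rw [herm_smul_right, hb, mul_zero]
  intro a ha b hb
  induction ha using Submodule.span_induction with
  | mem a ha => exact h1 a ha b hb
  | zero => rw [herm_zero_left]
  | add a c _ _ ha hc => rw [herm_add_left, ha, hc, add_zero]
  | smul c a _ ha => rw [herm_smul_left, ha, mul_zero]

/-- **Linear automorphisms with scalar third power.** -/
theorem fixR_linear (hF : Fintype.card F = q ^ 2) (hn : 4 ≤ n) {r : ℕ} [Fact r.Prime] [CharP F r] {A : GU n F q}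
    {c : F} (hA : gm A ^ 3 = c • (1 : Matrix (Fin n) (Fin n) F)) : FixR r (toAut A 1 : MulAut (PSU n F q)) := by
  obtain ⟨v, hv0, h0, h1⟩ := exists_isotropic hF hn (gm A)
  set w := gm A *ᵥ v with hw
  set u := gm A *ᵥ w with hu
  have h3 : gm A *ᵥ u = c • v := by
    rw [hu, hw, mulVec_mulVec, mulVec_mulVec, ← pow_two, ← pow_succ, hA, smul_mulVec, one_mulVec]
  have swap : ∀ {a b : Fin n → F}, hermForm n F q a b = 0 → hermForm n F q b a = 0 := fun h => herm_eq_zero_swap hF h
  have hww : hermForm n F q w w = 0 := by rw [hw, herm_gm, h0]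
  have huu : hermForm n F q u u = 0 := by rw [hu, herm_gm, hww]
  have hwu : hermForm n F q w u = 0 := by
    have := herm_gm A v w
    rw [h1] at this
    exact this
  have hvu : hermForm n F q v u = 0 := by
    rw [← herm_gm A, h3, ← hw, herm_smul_right, swap h1, mul_zero]
  refine fixR_sing hF (by omega) (U := Submodule.span F {v, w, u}) (span_iso hF ?_) ?_ ?_
  · rintro a (rfl | rfl | rfl) b (rfl | rfl | rfl)
    · exact h0
    · exact h1
    · exact hvu
    · exact swap h1
    · exact hww
    · exact hwu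
    · exact swap hvu
    · exact swap hwu
    · exact huu
  · intro h
    apply hv0
    have h2 : v ∈ Submodule.span F {v, w, u} := Submodule.subset_span (Or.inl rfl)
    rw [h] at h2
    exact (Submodule.mem_bot F).1 h2
  · intro x hx
    have hmap : (Submodule.span F {v, w, u}).map (Matrix.mulVecLin (gm A)) ≤ Submodule.span F {v, w, u} := by
      rw [Submodule.map_span_le]
      rintro y (rfl | rfl | rfl)
      · exact Submodule.subset_span (Or.inr (Or.inl rfl))
      · exact Submodule.subset_span (Or.inr (Or.inr rfl))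
      · rw [Matrix.mulVecLin_apply, h3]
        exact Submodule.smul_mem _ _ (Submodule.subset_span (Or.inl rfl))
    exact hmap ⟨x, hx, rfl⟩

/-- **Automorphisms of order three of `PSU_n(q)`, `n ≥ 4`.** -/
theorem fixR_PSU (hF : Fintype.card F = q ^ 2) (hn : 4 ≤ n) {r : ℕ} [Fact r.Prime] [CharP F r]
    {x : MulAut (PSU n F q)} (hx : orderOf x = 3) : FixR r x := by
  have hq2 := two_le hF
  have hp : Nat.Prime 3 := Nat.prime_three
  have : Fact (Nat.Prime 3) := ⟨hp⟩
  obtain ⟨A, ρ, rfl⟩ := ClassicalGeometry.PSUAutMain.exists_toAut hF (by omega : 3 ≤ n) (by omega) x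
  have hpow : toAut A ρ ^ 3 = 1 := by rw [← hx, pow_orderOf_eq_one]
  by_cases hρ : ρ = 1
  · subst hρ
    obtain ⟨-, c, hc1, hc⟩ := CpAutU.Desc.exists_scalar hF (by omega : 3 ≤ n) hpow
    have hgm : gm A ^ 3 = c • (1 : Matrix (Fin n) (Fin n) F) := by
      rw [← gm_pow]
      have h1 : ∀ k : ℕ, ∀ v, (CpAut.Psl.perm (A : GL (Fin n) F) 1 ^ k) v = gm (A ^ k) *ᵥ v := by
        intro k
        induction k with
        | zero => intro v; rw [pow_zero, pow_zero, gm_one, one_mulVec]; rfl
        | succ k ih =>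
          intro v
          rw [pow_succ, Equiv.Perm.mul_apply, ih, pow_succ, gm_mul, ← mulVec_mulVec]
          rfl
      apply Matrix.ext_of_mulVec_single
      intro i
      rw [← h1, hc, Matrix.smul_mulVec, one_mulVec]
    exact fixR_linear hF hn hgm
  · exact fixR_field hF (by omega) hp (by norm_num) hρ hpow

/-- **The row `PSU_n(q)`, `n ≥ 4`.** -/
theorem fixAt_psu {K : Type*} [Group K] [Finite K] [IsSimpleGroup K] {F : Type} [Field F] [Fintype F] {n q r : ℕ}
    [Fact r.Prime] [CharP F r] (hF : Fintype.card F = q ^ 2) (hn : 4 ≤ n) (_hr : r ≠ 3)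
    (e : Nonempty (K ≃* Cfsg.PSU n F q)) : Cfsg.Agent.H959.Rad3.FixAt r K := by
  obtain ⟨e⟩ := e
  exact H959.Rad3.FixAt.congr e fun x hx _ _ => fixR_PSU hF hn hx

end Cfsg.Agent.H858.FixPsu
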