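import Cfsg.Agent.H858.TwoHSCert
import Cfsg.Agent.H852.IMHS
import Cfsg.Agent.H34.SporHS
import Cfsg.Agent.H904.HSIso
import Cfsg.Agent.S2072

/-!
# `HS`: two characters of degree divisible by `p` (helper858)

* `p = 2, 7` : certificates (columns of 7 and 11, degrees 22 and 77);
* `p = 11` : degrees 22, 77;
* `p = 3, 5` : the local data of helper852.
-/

set_option autoImplicit false

open Cfsg

namespace Cfsg.Agent.H858.TwoHS

open Cfsg.Agent.H651.Two Cfsg.Agent.Characters.Core Cfsg.Agent.H596.OneFacts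
open Cfsg.Agent.H33 Cfsg.Agent.H852.IMPerm Cfsg.Agent.H852.IMLocal Subgroup Equiv
open Cfsg.Agent.SporadicA.PermTab Cfsg.Agent.HN.HS100 Cfsg.Agent.H852.IMHS

universe u

theorem three_three : 3 ≤ ND 3 Q := by
  have hQ : Nat.card Q = 44352000 := Cfsg.Agent.HN.AutBound.card_Q
  have : Fact (Nat.Prime 3) := ⟨by norm_num⟩
  obtain ⟨x, hx⟩ := exists_el in3'
  obtain ⟨a, ha⟩ := exists_el ina
  obtain ⟨b, hb⟩ := exists_el inb
  have hxo : orderOf x = 3 := orderOf_of hx (by decide +kernel) 0 (by decide +kernel)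
  have hax : a * x = x * a := commute_of ha hx (by decide +kernel)
  have hbx : b * x = x * b := commute_of hb hx (by decide +kernel)
  refine three_le_of_cent hxo (by norm_num) ?_ ?_ (by rw [hQ]; norm_num)
  · let _ := act5 hx
    let a' : centralizer ({x} : Set Q) := ⟨a, mem_centralizer_singleton_iff.2 hax⟩
    let b' : centralizer ({x} : Set Q) := ⟨b, mem_centralizer_singleton_iff.2 hbx⟩
    set ψ := MulAction.toPermHom (centralizer ({x} : Set Q)) (Fin 5) with hψ
    have hlab : ∀ {P : ℕ} {g : Q}, (∀ i : Fin 100, ((g : Perm (Fin 100)) i : ℕ) = lk P i) → ∀ t : Fin 5,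
        (labF ((g : Perm (Fin 100)) (rep t)) : ℕ) = lk tlab (lk P (rep t)) % 5 := by
      intro P g hg t
      show lk tlab ((g : Perm (Fin 100)) (rep t) : Fin 100) % 5 = _
      rw [hg]
    have h1 : ψ a' = finRotate 5 := by
      refine Equiv.ext fun t => Fin.ext ?_
      show (labF ((a : Perm (Fin 100)) (rep t)) : ℕ) = _
      rw [hlab ha]
      revert t
      decide +kernel
    have h2 : ψ b' = swap 3 4 := by
      refine Equiv.ext fun t => Fin.ext ?_
      show (labF ((b : Perm (Fin 100)) (rep t)) : ℕ) = _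
      rw [hlab hb]
      revert t
      decide +kernel
    have h3 : Function.Surjective ψ := by
      rw [← MonoidHom.range_eq_top, eq_top_iff, ← Equiv.Perm.closure_prime_cycle_swap (σ := finRotate 5)
        (τ := swap 3 4) (by simp; norm_num) isCycle_finRotate support_finRotate ⟨3, 4, by decide, rfl⟩,
        closure_le]
      rintro g (rfl | hg)
      · exact ⟨a', h1⟩
      · rw [Set.mem_singleton_iff] at hg
        rw [hg]
        exact ⟨b', h2⟩
    refine IM.of_surjective ψ h3 ?_
    exact im_four (X := Fin 5) (Equiv.Perm.isMultiplyPretransitive (Fin 5) 4) (by simp) (by simp)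
  · intro h
    have h1 : Nat.card (centralizer ({x} : Set Q)) ∣ 44352000 := by
      rw [← hQ]
      exact card_subgroup_dvd_card _
    exact absurd (h.trans h1) (by norm_num)

theorem three_five : 3 ≤ ND 5 Q := by
  have hQ : Nat.card Q = 44352000 := Cfsg.Agent.HN.AutBound.card_Q
  have : Fact (Nat.Prime 5) := ⟨by norm_num⟩
  have : Fact (Nat.Prime 3) := ⟨by norm_num⟩
  have : Fact (Nat.Prime 2) := ⟨by norm_num⟩
  obtain ⟨x, hx⟩ := exists_el in5x
  obtain ⟨a, ha⟩ := exists_el inua
  obtain ⟨b, hb⟩ := exists_el inub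
  obtain ⟨s, hs⟩ := exists_el inus
  obtain ⟨t, ht⟩ := exists_el inut
  have hxo : orderOf x = 5 := orderOf_of hx (by decide +kernel) 0 (by decide +kernel)
  have hao : orderOf a = 5 := orderOf_of ha (by decide +kernel) 0 (by decide +kernel)
  have hbo : orderOf b = 5 := orderOf_of hb (by decide +kernel) 0 (by decide +kernel)
  have hso : orderOf s = 3 := orderOf_of hs (by decide +kernel) 0 (by decide +kernel)
  have hto : orderOf t = 2 := orderOf_of ht (by decide +kernel) 0 (by decide +kernel)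
  have hax : a * x = x * a := commute_of ha hx (by decide +kernel)
  have hbx : b * x = x * b := commute_of hb hx (by decide +kernel)
  have hsx : s * x = x * s := commute_of hs hx (by decide +kernel)
  have htx : t * x = x * t := commute_of ht hx (by decide +kernel)
  set C := centralizer ({x} : Set Q) with hC
  let x' : C := ⟨x, mem_centralizer_singleton_iff.2 rfl⟩
  let a' : C := ⟨a, mem_centralizer_singleton_iff.2 hax⟩
  let b' : C := ⟨b, mem_centralizer_singleton_iff.2 hbx⟩
  let s' : C := ⟨s, mem_centralizer_singleton_iff.2 hsx⟩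
  let t' : C := ⟨t, mem_centralizer_singleton_iff.2 htx⟩
  have hx'o : orderOf x' = 5 := by rw [← Subgroup.orderOf_coe]; exact hxo
  have ha'o : orderOf a' = 5 := by rw [← Subgroup.orderOf_coe]; exact hao
  have hb'o : orderOf b' = 5 := by rw [← Subgroup.orderOf_coe]; exact hbo
  have h2 : 2 ∣ Nat.card C := by
    have h := orderOf_dvd_natCard t'
    rwa [← Subgroup.orderOf_coe, show ((t' : C) : Q) = t from rfl, hto] at h
  have h3 : 3 ∣ Nat.card C := by
    have h := orderOf_dvd_natCard s'
    rwa [← Subgroup.orderOf_coe, show ((s' : C) : Q) = s from rfl, hso] at h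
  -- the central subgroup
  have hcen : ∀ c : C, c * x' = x' * c := fun c => Subtype.ext (mem_centralizer_singleton_iff.1 c.2)
  have hN : (zpowers x').Normal := by
    refine ⟨fun n hn g => ?_⟩
    obtain ⟨k, rfl⟩ := mem_zpowers_iff.1 hn
    have h : g * x' ^ k = x' ^ k * g := ((Commute.zpow_right (hcen g) k) : Commute g (x' ^ k))
    rw [h, mul_inv_cancel_right]
    exact ⟨k, rfl⟩
  have hna : a' ∉ zpowers x' := by
    intro h
    -- then `a` would commute with `b`
    obtain ⟨k, hk⟩ := mem_zpowers_iff.1 h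
    have h4 : Commute b' a' := by
      rw [← hk]
      exact Commute.zpow_right (hcen b') k
    have h5 : b * a = a * b := congrArg (fun z : C => (z : Q)) (h4 : b' * a' = a' * b')
    have h6 : ((b : Perm (Fin 100)) ((a : Perm (Fin 100)) (0 : Fin 100)) : ℕ) = (a : Perm (Fin 100)) ((b : Perm (Fin 100)) (0 : Fin 100)) :=
      congrArg (fun z : Q => (((z : Perm (Fin 100)) (0 : Fin 100) : Fin 100) : ℕ)) h5
    rw [hb, ha, ha, hb] at h6
    revert h6
    decide +kernel
  have h5 : 25 ∣ Nat.card C := by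
    have h4 : Nat.card C = Nat.card (C ⧸ zpowers x') * Nat.card (zpowers x') :=
      Subgroup.card_eq_card_quotient_mul_card_subgroup _
    rw [Nat.card_zpowers, hx'o] at h4
    have h6 : orderOf (QuotientGroup.mk' (zpowers x') a') = 5 := by
      refine orderOf_eq_prime ?_ ?_
      · rw [← map_pow, ← ha'o, pow_orderOf_eq_one, map_one]
      · intro h
        exact hna ((QuotientGroup.eq_one_iff a').1 h)
    have h7 := orderOf_dvd_natCard (QuotientGroup.mk' (zpowers x') a')
    rw [h6] at h7
    rw [h4]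
    exact Nat.mul_dvd_mul h7 dvd_rfl
  have hle : Nat.card C ≤ 600 := card_le_600 hx
  obtain ⟨hn5, hfac, hsyl⟩ := arith Nat.card_pos hle h2 h3 h5
  refine three_le_of_cent hxo (by norm_num) ?_ hn5 (by rw [hQ]; norm_num)
  refine im_of_sylow (card_sylow_of ?_ hsyl)
  intro h
  have hss : Subsingleton (Sylow 5 C) := (Nat.card_eq_one_iff_unique.1 h).1
  obtain ⟨P⟩ : Nonempty (Sylow 5 C) := inferInstance
  have hPc : Nat.card P = 5 ^ 2 := by
    rw [P.card_eq_multiplicity, hfac]
  have hmem : ∀ g : C, orderOf g = 5 → g ∈ (P : Subgroup C) := by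
    intro g hg
    have h4 : IsPGroup 5 (zpowers g) := IsPGroup.of_card (n := 1) (by rw [Nat.card_zpowers, hg, pow_one])
    obtain ⟨R, hR⟩ := h4.exists_le_sylow
    rw [Subsingleton.elim P R]
    exact hR (mem_zpowers g)
  have hcomm := IsPGroup.commutative_of_card_eq_prime_sq hPc
  have h4 : (⟨b', hmem b' hb'o⟩ : P) * ⟨a', hmem a' ha'o⟩ = ⟨a', hmem a' ha'o⟩ * ⟨b', hmem b' hb'o⟩ := hcomm _ _
  have h5 : b * a = a * b := congrArg (fun z : P => ((z : C) : Q)) h4
  have h6 : ((b : Perm (Fin 100)) ((a : Perm (Fin 100)) (0 : Fin 100)) : ℕ) = (a : Perm (Fin 100)) ((b : Perm (Fin 100)) (0 : Fin 100)) :=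
    congrArg (fun z : Q => (((z : Perm (Fin 100)) (0 : Fin 100) : Fin 100) : ℕ)) h5
  rw [hb, ha, ha, hb] at h6
  revert h6
  decide +kernel

theorem two (p : ℕ) (hp : p.Prime) (hd : p ∣ Nat.card Q) : Two p Q := by
  classical
  have hQ : Nat.card Q = 44352000 := Cfsg.Agent.HN.AutBound.card_Q
  obtain ⟨⟨f⟩, hs⟩ := Cfsg.Agent.HN.AutHS.nonempty_Q
  have hiso : Spor.IsoHS Q := ⟨f⟩
  have hfin : Finite Q := Nat.finite_of_card_ne_zero (by rw [hQ]; norm_num)
  have hM : Nat.card (Out Q) ≤ 2 := by
    rw [H635.Spor.card_out_congr f]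
    exact Cfsg.Agent.S2072.result.le
  have hirr := finite_irr (G := Q)
  have hG : ¬ IsMulCommutative Q := by
    intro hcm
    have : Fact (Nat.Prime 11) := ⟨by norm_num⟩
    obtain ⟨y, hy⟩ := exists_prime_orderOf_dvd_card' (G := Q) 11 (by rw [hQ]; norm_num)
    have hy' := H904.HSIso.card_eleven hiso hy
    have h1 : centralizer ({y} : Set Q) = ⊤ := by
      rw [eq_top_iff]
      intro z _
      rw [mem_centralizer_singleton_iff]
      exact hcm.is_comm.comm z y
    rw [h1, card_top, hQ] at hy'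
    exact absurd hy' (by norm_num)
  obtain ⟨χ₁, χ₂, h1, h2, -, -⟩ := H34.SporHS.exists_pair
  have has : ∀ d ∈ cd, d.Has Q := by
    intro d hd
    simp only [cd, List.mem_cons, List.not_mem_nil, or_false] at hd
    rcases hd with rfl | rfl
    · exact has_of_forall (by norm_num) (by rw [hQ]; norm_num) fun x hx => H904.HSIso.card_seven hiso hx
    · exact has_of_forall (by norm_num) (by rw [hQ]; norm_num) fun x hx => H904.HSIso.card_eleven hiso hx
  have hpr : ∀ Pc ∈ pr, Pc.2 ≤ Nat.card {χ : IrrCharacter Q // Pc.1 (charDegree (χ : Q → ℂ)) = true} := by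
    intro Pc hPc
    simp only [pr, List.mem_cons, List.not_mem_nil, or_false] at hPc
    rcases hPc with rfl | rfl
    · have : Nonempty {χ : IrrCharacter Q // (fun d => Nat.beq d 22) (charDegree (χ : Q → ℂ)) = true} :=
        ⟨⟨χ₁, by rw [h1]; decide⟩⟩
      exact Nat.card_pos
    · have : Nonempty {χ : IrrCharacter Q // (fun d => Nat.beq d 77) (charDegree (χ : Q → ℂ)) = true} :=
        ⟨⟨χ₂, by rw [h2]; decide⟩⟩
      exact Nat.card_pos
  have h := prime_mem hp facs_prime facs_prod (hQ ▸ hd)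
  simp only [facs, List.map_cons, List.map_nil, List.mem_cons, List.not_mem_nil, or_false] at h
  rcases h with rfl | rfl | rfl | rfl | rfl
  · exact two_of_degs ⟨χ₁, h1⟩ ⟨χ₂, h2⟩ (by norm_num) (by norm_num) (by norm_num)
  · refine two_7 hG hQ hM has hpr (fun P hP => ?_)
    simp only [kn7, List.mem_cons, List.not_mem_nil, or_false] at hP
    subst hP
    exact ⟨χ₂, by show 7 ∣ charDegree (χ₂ : Q → ℂ); rw [h2]; norm_num, by rw [h2]; decide⟩
  · have : Fact (Nat.Prime 5) := ⟨hp⟩
    exact two_of_three hM three_five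
  · have : Fact (Nat.Prime 3) := ⟨hp⟩
    exact two_of_three hM three_three
  · refine two_2 hG hQ hM has hpr (fun P hP => ?_)
    simp only [kn2, List.mem_cons, List.not_mem_nil, or_false] at hP
    subst hP
    exact ⟨χ₁, by show 2 ∣ charDegree (χ₁ : Q → ℂ); rw [h1]; norm_num, by rw [h1]; decide⟩

/-- **The row `HS`.** -/
theorem two_hs {S : Type u} [Group S] (h : Cfsg.Spor.IsoHS S) {p : ℕ} [hp : Fact p.Prime]
    (hd : p ∣ Nat.card S) : TwoOr p S := by
  obtain ⟨e⟩ := h
  obtain ⟨⟨f⟩, -⟩ := Cfsg.Agent.HN.AutHS.nonempty_Q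
  exact twoOr_of ⟨e.trans f.symm⟩ hd (two p hp.out)

end Cfsg.Agent.H858.TwoHS
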