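import Cfsg.Agent.H651.Two.Row
import Cfsg.Agent.H651.Two.Count
import Cfsg.Agent.H672.SporIM.RankRows
import Cfsg.Agent.H852.IMJTwo
import Cfsg.Agent.H379.J2Spec
import Cfsg.Agent.S2066
import Cfsg.Agent.S0157

/-!
# `J₂`: two characters of degree divisible by `p` (helper858)

* `p = 2` : local block of the four-group `V`, `C(V) = V × A₅`;
* `p = 3` : degrees 36, 63;
* `p = 5` : `C(w) / ⟨w⟩ = A₅`;
* `p = 7` : eleven element orders, `#C(x) = 7`.
-/

set_option autoImplicit false

open Cfsg Subgroup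

namespace Cfsg.Agent.H858.TwoJ2

open Cfsg.Agent.H651.Two Cfsg.Agent.Characters.Core Cfsg.Agent.H596.OneFacts
open Cfsg.Agent.J2Type.Base Cfsg.Agent.J2Type.CentU Cfsg.Agent.J2Type.Cent5
open Cfsg.Agent.H593.IMRank

universe u

/-- The alternating group of degree five has a character of degree four. -/
theorem exists_four : ∃ θ : IrrCharacter (alternatingGroup (Fin 5)),
    charDegree (θ : alternatingGroup (Fin 5) → ℂ) = 4 := by
  have h3 : MulAction.IsMultiplyPretransitive (alternatingGroup (Fin 5)) (Fin 5) 3 := by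
    have := alternatingGroup.isMultiplyPretransitive (Fin 5)
    simpa using this
  have h2 : MulAction.IsMultiplyPretransitive (alternatingGroup (Fin 5)) (Fin 5) 2 :=
    MulAction.isMultiplyPretransitive_of_le (n := 3) (by norm_num) (by simp)
  have h1 : MulAction.IsMultiplyPretransitive (alternatingGroup (Fin 5)) (Fin 5) 1 :=
    MulAction.isMultiplyPretransitive_of_le (n := 2) (by norm_num) (by simp)
  have ht : MulAction.IsPretransitive (alternatingGroup (Fin 5)) (Fin 5) :=
    MulAction.is_one_pretransitive_iff.1 h1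
  have h6 := (Cfsg.Agent.S0157.result (G := alternatingGroup (Fin 5)) (Fin 5) (by simp)).2 h2
  refine ⟨⟨_, h6⟩, H670.PSing.charDegree_eq_of ?_⟩
  have h3 : Nat.card (MulAction.fixedBy (Fin 5) (1 : alternatingGroup (Fin 5))) = 5 := by
    rw [MulAction.fixedBy_one_eq_univ, Nat.card_univ]
    simp
  show ((Nat.card (MulAction.fixedBy (Fin 5) (1 : alternatingGroup (Fin 5))) : ℕ) : ℂ) - 1 = _
  rw [h3]
  norm_num

section local'

variable {G : Type u} [Group G] [Finite G] {z u f : G} {U V H0 : Subgroup G}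

omit [Finite G] in
theorem le_cent (_h : Fus z u) (F : Full z u f U V H0) : centralizer (V : Set G) ≤ centralizer ({u} : Set G) := by
  intro x hx
  rw [mem_centralizer_singleton_iff]
  exact (mem_centralizer_iff.1 hx u F.uV).symm

theorem cent_V (h : Fus z u) (F : Full z u f U V H0) (h60 : Nat.card H0 = 60) :
    centralizer (V : Set G) = centralizer ({u} : Set G) := by
  refine le_antisymm (le_cent h F) ?_
  intro x hx
  rw [mem_centralizer_iff]
  intro v hv
  by_cases hv1 : v = 1
  · rw [hv1, one_mul, mul_one]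
  rw [← centralizer_eq h F h60 hv hv1] at hx
  exact (mem_centralizer_singleton_iff.1 hx).symm

theorem H0_le (h : Fus z u) (F : Full z u f U V H0) (h60 : Nat.card H0 = 60) : H0 ≤ centralizer (V : Set G) := by
  intro x hx
  rw [mem_centralizer_iff]
  intro v hv
  exact V_comm h F h60 hv hx

omit [Finite G] in
theorem V_le' (h : Fus z u) (F : Full z u f U V H0) : V ≤ centralizer (V : Set G) := by
  intro x hx
  rw [mem_centralizer_iff]
  intro v hv
  exact comm_V h F hv hx

/-- `V × H0 ≃ C(V)` -/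
theorem exists_proj (h : Fus z u) (F : Full z u f U V H0) (h60 : Nat.card H0 = 60) :
    ∃ g : centralizer (V : Set G) →* H0, Function.Surjective g := by
  let m : V × H0 →* centralizer (V : Set G) :=
    { toFun := fun p => ⟨p.1 * p.2, (centralizer (V : Set G)).mul_mem (V_le' h F p.1.2) (H0_le h F h60 p.2.2)⟩
      map_one' := Subtype.ext (by simp)
      map_mul' := by
        rintro ⟨a, b⟩ ⟨a', b'⟩
        apply Subtype.ext
        show ((a : G) * a') * (b * b') = (a * b) * (a' * b')
        rw [mul_assoc, mul_assoc, ← mul_assoc (a' : G), V_comm h F h60 a'.2 b.2, mul_assoc] }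
  have hm : Function.Bijective m := by
    constructor
    · rw [injective_iff_map_eq_one]
      rintro ⟨a, b⟩ hab
      have h1 : (a : G) * b = 1 := congrArg Subtype.val hab
      have h2 : (a : G) = 1 := by
        refine V_inf_H0 F a.2 ?_
        rw [← eq_inv_iff_mul_eq_one] at h1
        rw [h1]
        exact H0.inv_mem b.2
      have h3 : (b : G) = 1 := by rw [h2, one_mul] at h1; exact h1
      exact Prod.ext (Subtype.ext h2) (Subtype.ext h3)
    · rintro ⟨x, hx⟩
      obtain ⟨a, ha, b, hb, rfl⟩ := exists_mul F (le_cent h F hx)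
      exact ⟨(⟨a, ha⟩, ⟨b, hb⟩), rfl⟩
  let e := MulEquiv.ofBijective m hm
  refine ⟨(MonoidHom.snd V H0).comp e.symm.toMonoidHom, ?_⟩
  intro y
  refine ⟨e (1, y), ?_⟩
  show ((e.symm (e (1, y))).2) = y
  rw [e.symm_apply_apply]

theorem three_two (h : Fus z u) (F : Full z u f U V H0) (h60 : Nat.card H0 = 60) (h8 : 8 ∣ Nat.card G) :
    3 ≤ ND 2 G := by
  have : Fact (Nat.Prime 2) := ⟨Nat.prime_two⟩
  have hV : IsPGroup 2 V := IsPGroup.of_card (n := 2) (by rw [F.cardV]; norm_num)
  obtain ⟨g, hg⟩ := exists_proj h F h60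
  obtain ⟨e⟩ := exists_equiv h F h60
  obtain ⟨θ, hθ⟩ := exists_four
  have hs : Function.Surjective (e.toMonoidHom.comp g) := e.surjective.comp hg
  have hc : Nat.card (centralizer (V : Set G)) = 240 := by
    rw [cent_V h F h60, card_centralizer_u F h60]
  refine three_le_of_local V hV (by rw [F.cardV]; norm_num) ?_
    ⟨(θ : alternatingGroup (Fin 5) → ℂ) ∘ (e.toMonoidHom.comp g), isIrr_comp _ hs θ.2⟩ ?_ ?_
  · have h1 := V.card_mul_index
    rw [F.cardV] at h1
    rw [← h1] at h8
    omega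
  · have h1 : charDegree ((θ : alternatingGroup (Fin 5) → ℂ) ∘ (e.toMonoidHom.comp g)) = 4 := by
      rw [← hθ]
      simp only [charDegree, Function.comp_apply, map_one]
    show _ ≤ (charDegree ((θ : alternatingGroup (Fin 5) → ℂ) ∘ (e.toMonoidHom.comp g))).factorization 2 + _
    rw [h1, inf_eq_left.2 (V_le' h F), hc, F.cardV]
    have e1 : (240 : ℕ).factorization 2 = 4 :=
      H852.IMJTwo.fac (n := 4) (m := 15) (by norm_num) (by norm_num) (by norm_num)
    have e2 : (4 : ℕ).factorization 2 = 2 :=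
      H852.IMJTwo.fac (n := 2) (m := 1) (by norm_num) (by norm_num) (by norm_num)
    rw [e1, e2]
  · intro g hg hk
    refine mem_sup_right ?_
    -- `g` acts on the three involutions of `V` and fixes one
    have hgV : ∀ v, v ∈ V ↔ g * v * g⁻¹ ∈ V := fun v => mem_normalizer_iff.1 hg v
    have hgV' : ∀ v, v ∈ V → g⁻¹ * v * g ∈ V := by
      intro v hv
      rw [hgV]
      have : g * (g⁻¹ * v * g) * g⁻¹ = v := by group
      rwa [this]
    let σ : Equiv.Perm {v : G // v ∈ V ∧ v ≠ 1} :=
      { toFun := fun v => ⟨g * v * g⁻¹, (hgV v).1 v.2.1, fun h1 => v.2.2 (by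
          have : (v : G) = g⁻¹ * (g * v * g⁻¹) * g := by group
          rw [this, h1]; group)⟩
        invFun := fun v => ⟨g⁻¹ * v * g, hgV' v v.2.1, fun h1 => v.2.2 (by
          have : (v : G) = g * (g⁻¹ * v * g) * g⁻¹ := by group
          rw [this, h1]; group)⟩
        left_inv := fun v => Subtype.ext (by show g⁻¹ * (g * v * g⁻¹) * g = v; group)
        right_inv := fun v => Subtype.ext (by show g * (g⁻¹ * v * g) * g⁻¹ = v; group) }
    have hpow : ∀ (n : ℕ) (v : {v : G // v ∈ V ∧ v ≠ 1}), ((σ ^ n) v : G) = g ^ n * v * (g ^ n)⁻¹ := by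
      intro n
      induction n with
      | zero => intro v; simp
      | succ n ih =>
        intro v
        rw [pow_succ', Equiv.Perm.mul_apply]
        show g * ((σ ^ n) v : G) * g⁻¹ = _
        rw [ih, pow_succ']
        group
    obtain ⟨k, hk⟩ := hk
    have hσ : σ ^ 2 ^ k = 1 := by
      ext v
      rw [hpow, ← hk, pow_orderOf_eq_one, one_mul, inv_one, mul_one]
      rfl
    have hcard : Nat.card {v : G // v ∈ V ∧ v ≠ 1} = 3 := by
      have h1 : Nat.card {v : G // v ∈ V ∧ v ≠ 1} = ((V : Set G) \ {1}).ncard := by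
        rw [← Nat.card_coe_set_eq]
        rfl
      rw [h1, Set.ncard_sdiff_singleton_of_mem V.one_mem]
      have h2 : (V : Set G).ncard = Nat.card V := Nat.card_coe_set_eq _
      rw [h2, F.cardV]
    have := Fintype.ofFinite {v : G // v ∈ V ∧ v ≠ 1}
    obtain ⟨v, hv⟩ := Equiv.Perm.exists_fixed_point_of_prime (p := 2) (n := k)
      (by rw [← Nat.card_eq_fintype_card, hcard]; norm_num) hσ
    have hv' : g * v * g⁻¹ = v := congrArg Subtype.val hv
    rw [cent_V h F h60, ← centralizer_eq h F h60 v.2.1 v.2.2, mem_centralizer_singleton_iff]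
    exact mul_inv_eq_iff_eq_mul.1 hv'

end local'

/-- The centralizer of an element of order seven. -/
theorem three_seven {G : Type u} [Group G] [Finite G] (ho : ∀ g : G, orderOf g ∈ ({1, 2, 3, 4, 5, 6, 7, 8, 10, 12, 15} : Finset ℕ))
    (hr : ∀ n ∈ ({1, 2, 3, 4, 5, 6, 7, 8, 10, 12, 15} : Finset ℕ), ∃ g : G, orderOf g = n)
    (hc : ¬ 7 ^ 2 ∣ Nat.card G) : 3 ≤ ND 7 G := by
  have : Fact (Nat.Prime 7) := ⟨by norm_num⟩
  obtain ⟨x, hx⟩ := hr 7 (by decide)
  have h1 := card_le_conjClasses_of_orders _ hr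
  have h2 := classes_le_prime (p := 7) hx (fun h => hc (h.trans (card_subgroup_dvd_card _)))
    (fun _ : Unit => (1 : centralizer ({x} : Set G))) (fun c hc7 => ⟨(), by
      suffices c = 1 by rw [this]
      by_contra hne
      have hn1 : orderOf c ≠ 1 := fun h => hne (orderOf_eq_one_iff.1 h)
      have hcom : Commute x (c : G) := (mem_centralizer_singleton_iff.1 c.2).symm
      have hcop : Nat.Coprime (orderOf x) (orderOf (c : G)) := by
        rw [hx, Subgroup.orderOf_coe]
        exact (Nat.Prime.coprime_iff_not_dvd (by norm_num)).2 hc7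
      have h3 := hcom.orderOf_mul_eq_mul_orderOf_of_coprime hcop
      have h4 := ho (x * c)
      rw [h3, hx, Subgroup.orderOf_coe] at h4
      simp only [Finset.mem_insert, Finset.mem_singleton] at h4
      omega⟩)
  have h3 : ({1, 2, 3, 4, 5, 6, 7, 8, 10, 12, 15} : Finset ℕ).card = 11 := by decide
  rw [Fintype.card_unit] at h2
  omega

theorem two (p : ℕ) (hp : p.Prime) (hd : p ∣ Nat.card Spor.J2) : Two p Spor.J2 := by
  have hfin := Cfsg.Agent.H379.J2Spec.finite_J2
  have hc : Nat.card Spor.J2 = 604800 :=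
    Cfsg.Agent.OrdDiv.table_spor Spor.J2 (.j2, 604800) (by decide +kernel) ⟨MulEquiv.refl _⟩
  have hM : Nat.card (Out Spor.J2) ≤ 2 := Cfsg.Agent.S2066.result.le
  obtain ⟨t, u, Q, v, ρ, D⟩ := KFacts.J2.Facts.exists_dat_of (X := Spor.J2) ⟨MulEquiv.refl _⟩
  obtain ⟨f, U, V, H0, F⟩ := J2Type.CentU.main D.F
  have h60 : Nat.card H0 = 60 := by
    have h1 := J2Type.Order.card_centralizer_u D.F
    rw [F.str.card] at h1
    omega
  have h := prime_mem hp (L := [(7, 1), (5, 2), (3, 3), (2, 7)]) (by norm_num) (N := 604800)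
    (by decide +kernel) (hc ▸ hd)
  simp only [List.map_cons, List.map_nil, List.mem_cons, List.not_mem_nil, or_false] at h
  rcases h with rfl | rfl | rfl | rfl
  · have : Fact (Nat.Prime 7) := ⟨hp⟩
    refine two_of_three hM (three_seven Cfsg.Agent.H379.J2Spec.orders_J2 (fun n hn => ?_) (by rw [hc]; norm_num))
    have h1 := Cfsg.Agent.H379.J2Spec.range_J2
    have h2 : n ∈ Set.range (orderOf : Cfsg.Spor.J2 → ℕ) := by rw [h1]; exact hn
    exact h2
  · have : Fact (Nat.Prime 5) := ⟨hp⟩
    obtain ⟨w, hw⟩ : ∃ w : H0, orderOf w = 5 := exists_prime_orderOf_dvd_card' 5 (by rw [h60]; norm_num)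
    have hw' : orderOf (w : Spor.J2) = 5 := by rw [Subgroup.orderOf_coe, hw]
    obtain ⟨e⟩ := exists_equiv_CQ D.F F h60 hc w.2 hw'
    refine two_of_three hM (three_le_of_cent hw' (by norm_num)
      (Cfsg.Agent.H33.IM.of_quotient _ (H852.IMJTwo.im_five_alt e)) ?_ (by rw [hc]; norm_num))
    rw [card_centralizer_five D.F F h60 hc w.2 hw']
    norm_num
  · obtain ⟨h1, h2⟩ := H672.SporIM.j2 (K := Spor.J2) ⟨MulEquiv.refl _⟩
    exact two_of_degs h1 h2 (by norm_num) (by norm_num) (by norm_num)
  · have : Fact (Nat.Prime 2) := ⟨hp⟩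
    exact two_of_three hM (three_two D.F F h60 (by rw [hc]; norm_num))

/-- **The row `J₂`.** -/
theorem two_j2 {S : Type u} [Group S] (h : Cfsg.Spor.IsoJ2 S) {p : ℕ} [hp : Fact p.Prime]
    (hd : p ∣ Nat.card S) : TwoOr p S := twoOr_of h hd (two p hp.out)

end Cfsg.Agent.H858.TwoJ2
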