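import Cfsg.Agent.FixBN.WittNodeC
import Cfsg.Agent.H286.TypeI
import Cfsg.Agent.UGT.U2.FOne.PSUSemi

/-!
# `U₄(q)`, `q` odd: the short node is not in `J`

`zero_notMem` : for an involutory automorphism of `PSU₄(q)` in the normal form `NF` of the root group datum of the Witt
frame, with trivial action on the diagram, the short node `0` is not in `J`.
-/

set_option autoImplicit false

namespace Cfsg.Agent.H858.UFour

open Cfsg Matrix
open Cfsg.Agent.LieClassical.HermBasic Cfsg.Agent.LieClassical.HermSiegel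
open Cfsg.Agent.ChevalleyStructure.CoxeterGeom Cfsg.Agent.Tits.Roots Cfsg.Agent.Nodes.TypeC
open Cfsg.Agent.Nodes.Comb Cfsg.Agent.Nodes.Reps Cfsg.Agent.Nodes.WittRoot Cfsg.Agent.Nodes.BNOf
open Cfsg.Agent.Nodes.WittRGD Cfsg.Agent.Nodes.RGDLib Cfsg.Agent.Nodes.WittModel Cfsg.Agent.Nodes.KindBC
open Cfsg.Agent.TitsThree Cfsg.Agent.TitsThree.Siegel Cfsg.Agent.TitsThree.SiegelGen
  Cfsg.Agent.TitsThree.WittFrame Cfsg.Agent.TitsThree.WBridge Cfsg.Agent.TitsThree.WittWeyl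
  Cfsg.Agent.TitsThree.FrameCN Cfsg.Agent.TitsThree.KSideU Cfsg.Agent.TitsThree.KSideUDesc
open Cfsg.Agent.ClassicalGeometry.PSUAutCount (gm semiConj toAut eq_of_toAut_eq act_semiConj herm_semi gm_one)
open Cfsg.Agent.ClassicalGeometry.PSUAutBasic (transv)
open Cfsg.Agent.ClassicalGeometry.PSUAutSylow (RR mem_RR RR_eq_iff)
open Cfsg.Agent.ClassicalGeometry.PSUAutMain (toAut_pr' toAut_RR exists_toAut)
open Cfsg.Agent.ClassicalGeometry.PSUAutExt (isSiegel_semi semiConj_siegel)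
open Cfsg.Agent.Schreier.PSU (f₁ mapGU)
open Cfsg.Agent.UGT.U2.FOne Cfsg.Agent.UGT.U2.FOne.PSUSemi
open Cfsg.Agent.H286.TypeI

variable {F : Type*} [Field F] [Fintype F] {q N : ℕ}

/-! ### The equation `t ρ(t) = α / β` -/

omit [Field F] in
theorem odd_q' (hF : Fintype.card F = q ^ 2) (ho : Odd (Fintype.card F)) : Odd q := by
  rw [hF] at ho
  exact Nat.Odd.of_mul_left (by rwa [sq] at ho)

/-- an element of norm one is a square -/
theorem isSquare_of_norm (hF : Fintype.card F = q ^ 2) (ho : Odd (Fintype.card F)) {c : F} (h : c * c ^ q = 1) :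
    IsSquare c := by
  have hc0 : c ≠ 0 := by
    rintro rfl
    rw [zero_mul] at h
    exact zero_ne_one h
  have hch : ringChar F ≠ 2 := by
    intro h2
    have h3 := (FiniteField.even_card_iff_char_two (F := F)).1 h2
    rw [Nat.odd_iff] at ho
    omega
  rw [FiniteField.isSquare_iff hch hc0]
  obtain ⟨k, hk⟩ := odd_q' hF ho
  have h1 : Fintype.card F / 2 = (q + 1) * k := by
    rw [hF, hk]
    have : (2 * k + 1) ^ 2 = 2 * ((2 * k + 1 + 1) * k) + 1 := by ring
    omega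
  rw [h1, pow_mul, pow_succ, mul_comm (c ^ q) c, h, one_pow]

/-- **`t ρ(t) = α / β` is solvable** if `A ρ` interchanges the lines of `u` and `v` and has order two in `Aut PSU`. -/
theorem exists_t (hF : Fintype.card F = q ^ 2) (hn : 3 ≤ N) (ho : Odd (Fintype.card F)) {A : GU N F q} {ρ : F ≃+* F}
    (hx : toAut A ρ * toAut A ρ = 1) {u v : Fin N → F} {α β : F} (hα : α ≠ 0) (hβ : β ≠ 0) (hu : u ≠ 0)
    (h1 : S A ρ u = α • v) (h2 : S A ρ v = β • u) : ∃ t : F, t ≠ 0 ∧ t * ρ t * β = α := by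
  by_cases hρ : ρ = 1
  · subst hρ
    have e1 : toAut (1 : GU N F q) 1 = toAut (A * mapGU 1 A) (1 * 1) := by
      rw [← toAut_mul, hx]
      exact map_one f₁
    obtain ⟨-, c, hcq, hc⟩ := eq_of_toAut_eq hF hn e1
    have h3 : S A 1 (S A 1 u) = c • u := by
      rw [S_S, S_def, hc, gm_one, smul_mulVec, one_mulVec]
      rfl
    rw [h1, S_smul, h2, smul_smul, ← sub_eq_zero, ← sub_smul] at h3
    have h4 : α * β = c := sub_eq_zero.1 ((smul_eq_zero.1 h3).resolve_right hu)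
    obtain ⟨s, hs⟩ := isSquare_of_norm hF ho hcq
    have hs0 : s ≠ 0 := by
      rintro rfl
      rw [mul_zero] at hs
      rw [hs] at h4
      exact (mul_ne_zero hα hβ) h4
    refine ⟨s / β, div_ne_zero hs0 hβ, ?_⟩
    show s / β * (s / β) * β = α
    field_simp
    rw [sq, ← hs, ← h4, mul_comm]
  · obtain ⟨hρ', c, hS⟩ := data hF hn hρ hx
    have hc := hS.sq u
    rw [h1, hS.smul, h2, smul_smul, ← sub_eq_zero, ← sub_smul] at hc
    have h4 : α ^ q * β = c := sub_eq_zero.1 ((smul_eq_zero.1 hc).resolve_right hu)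
    have h5 : c ^ q = c := hS.c_pow hF hu
    have h6 : α * β ^ q = c := by
      rw [← h5, ← h4, mul_pow, pow_q_pow_q hF]
    have hc0 := hS.c_ne
    have hβq : β ^ q ≠ 0 := pow_ne_zero _ hβ
    obtain ⟨t, ht0, ht⟩ := exists_norm_eq_ne hF (c := c / (β * β ^ q)) (by
      rw [div_pow, h5, mul_pow, pow_q_pow_q hF, mul_comm (β ^ q)]) (div_ne_zero hc0 (mul_ne_zero hβ hβq))
    refine ⟨t, ht0, ?_⟩
    have e : ρ t = t ^ q := by rw [hρ']; rfl
    rw [e, ht, ← h6]
    field_simp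

/-! ### The root groups -/

theorem toPSU_sie (hF : Fintype.card F = q ^ 2) {u w : Fin N → F} {c : F} (huu : (HU hF N).h u u = 0)
    (huw : (HU hF N).h u w = 0) (hok : (PU hF N).ok w c) (hm : (HU hF N).sie u w c huu huw ∈ IU F q N) :
    toPSU F q N ⟨_, hm⟩ = ClassicalGeometry.PSUAutBasic.pr N F q (siegel hF u w c (isSiegel_of hF huu huw hok)) := by
  have h1 : ofRange F q N ⟨_, hm⟩ = siegel hF u w c (isSiegel_of hF huu huw hok) := by
    apply toLin_injective
    rw [toLin_ofRange, toLin_siegel hF _ huu huw]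
  show ClassicalGeometry.PSUAutBasic.pr N F q (ofRange F q N ⟨_, hm⟩) = _
  rw [h1]

variable {hF : Fintype.card F = q ^ 2} {hN : 3 ≤ N} {m : ℕ} {W : WFrame (PU hF N) m}

theorem b_iso (a : Fin m × Bool) : hermForm N F q ((toFrame W).b a) ((toFrame W).b a) = 0 := (toFrame W).hb_self a

theorem X_rt_self (hW : W.V0 = ⊥) (a : Fin m × Bool) :
    X (KInstU.model hF hN W) (rt a a) = RR hF ((toFrame W).b a) (b_iso a) := by
  ext k
  rw [mem_X, mem_RR]
  constructor
  · rintro ⟨g, hg, hgr, rfl⟩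
    rw [rg_eq (toFrame W) (Or.inr rfl) (ee_rt a a), PG_self] at hgr
    obtain ⟨⟨w, c, hw, hok⟩, rfl⟩ := hgr
    have hw0 : w = 0 := by
      rw [hW] at hw
      exact (Submodule.mem_bot F).1 hw
    subst hw0
    have hμ : c + c ^ q = 0 := by
      rw [ok_iff, herm_zero_left, neg_zero] at hok
      exact hok
    exact ⟨c, hμ, toPSU_sie hF _ _ hok hg⟩
  · rintro ⟨μ, hμ, rfl⟩
    have hok : (PU hF N).ok 0 μ := by
      rw [ok_iff, herm_zero_left, neg_zero]
      exact hμ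
    refine ⟨(toFrame W).Z a ⟨0, μ, W.V0.zero_mem, hok⟩, Z_mem hF W a _, ?_, ?_⟩
    · rw [rg_eq (toFrame W) (Or.inr rfl) (ee_rt a a), PG_self]
      exact ⟨_, rfl⟩
    · exact (toPSU_sie hF _ _ hok _).symm

theorem mem_X_rt {a b : Fin m × Bool} (hab : a.1 ≠ b.1) {k : PSU N F q} :
    k ∈ X (KInstU.model hF hN W) (rt a b) ↔ ∃ t : F, k = Xb hF W a b t := by
  rw [mem_X]
  constructor
  · rintro ⟨g, hg, hgr, rfl⟩
    rw [rg_eq (toFrame W) (Or.inl hab) (ee_rt a b), PG_ne _ hab] at hgr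
    obtain ⟨t, rfl⟩ := hgr
    exact ⟨t, rfl⟩
  · rintro ⟨t, rfl⟩
    refine ⟨(toFrame W).X a b t, X_mem hF W a b t, ?_, rfl⟩
    rw [rg_eq (toFrame W) (Or.inl hab) (ee_rt a b), PG_ne _ hab]
    exact ⟨t, rfl⟩

theorem Xb_mul (a b : Fin m × Bool) (s t : F) : Xb hF W a b (s + t) = Xb hF W a b s * Xb hF W a b t := by
  unfold Xb
  rw [← map_mul]
  congr 1
  exact Subtype.ext ((toFrame W).X_add a b s t)

theorem Xb_neg (a b : Fin m × Bool) (t : F) : Xb hF W a b (-t) = (Xb hF W a b t)⁻¹ := by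
  unfold Xb
  rw [← map_inv]
  congr 1
  exact Subtype.ext ((toFrame W).X_neg a b t)

theorem nX_rel {a b : Fin m × Bool} (hab : a.1 ≠ b.1) {t : F} (ht : t ≠ 0) (s : F) :
    (Xb hF W a b t * Xb hF W (WittFrame.neg b) (WittFrame.neg a) (-t⁻¹) * Xb hF W a b t) * Xb hF W a b s *
      (Xb hF W a b t * Xb hF W (WittFrame.neg b) (WittFrame.neg a) (-t⁻¹) * Xb hF W a b t)⁻¹ =
      Xb hF W (WittFrame.neg b) (WittFrame.neg a) (-(t⁻¹ ^ 2 * s)) := by
  unfold Xb
  simp only [← map_mul, ← map_inv]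
  congr 1
  exact Subtype.ext (nX_conj_X (toFrame W) hab ht s)

/-- **The relation in `SL₂`.** -/
theorem cj_rel {a b : Fin m × Bool} (hab : a.1 ≠ b.1) {t : F} (ht : t ≠ 0) :
    cj (Xb hF W a b t) (X (KInstU.model hF hN W) (rt (WittFrame.neg b) (WittFrame.neg a))) =
      cj (Xb hF W (WittFrame.neg b) (WittFrame.neg a) t⁻¹) (X (KInstU.model hF hN W) (rt a b)) := by
  have hba : (WittFrame.neg b).1 ≠ (WittFrame.neg a).1 := hab.symm
  set k := Xb hF W a b t with hk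
  set v := Xb hF W (WittFrame.neg b) (WittFrame.neg a) t⁻¹ with hv
  have e1 : Xb hF W a b (-t) = k⁻¹ := Xb_neg a b t
  have e2 : Xb hF W (WittFrame.neg b) (WittFrame.neg a) (-(-t)⁻¹) = v := by
    rw [hv]
    congr 1
    rw [inv_neg, _root_.neg_neg]
  have key : ∀ s, (k⁻¹ * v * k⁻¹) * Xb hF W a b s * (k⁻¹ * v * k⁻¹)⁻¹ =
      Xb hF W (WittFrame.neg b) (WittFrame.neg a) (-((-t)⁻¹ ^ 2 * s)) := by
    intro s
    have h1 := nX_rel (hF := hF) (W := W) hab (neg_ne_zero.2 ht) s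
    rwa [e1, e2] at h1
  have h1 : cj (k⁻¹ * v * k⁻¹) (X (KInstU.model hF hN W) (rt a b)) =
      X (KInstU.model hF hN W) (rt (WittFrame.neg b) (WittFrame.neg a)) := by
    ext y
    rw [mem_cj, mem_X_rt hab, mem_X_rt hba]
    constructor
    · rintro ⟨s, hs⟩
      refine ⟨-((-t)⁻¹ ^ 2 * s), ?_⟩
      rw [← key s, ← hs]
      group
    · rintro ⟨s, rfl⟩
      refine ⟨-((-t) ^ 2 * s), ?_⟩
      have h2 := key (-((-t) ^ 2 * s))
      have h3 : -((-t)⁻¹ ^ 2 * -((-t) ^ 2 * s)) = s := by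
        field_simp
      rw [h3] at h2
      rw [← h2]
      group
  have h2 : cj k⁻¹ (X (KInstU.model hF hN W) (rt a b)) = X (KInstU.model hF hN W) (rt a b) := by
    apply cj_eq_of_mem
    exact Subgroup.inv_mem _ ((mem_X_rt hab).2 ⟨t, rfl⟩)
  rw [cj_mul, h2, cj_mul] at h1
  rw [← h1, ← cj_mul, mul_inv_cancel, cj_one]

/-! ### The automorphism -/

theorem mem_RR_iff_map {A : GU N F q} {ρ : F ≃+* F} {u v : Fin N → F} (hu : hermForm N F q u u = 0)
    (hv : hermForm N F q v v = 0) (hu0 : u ≠ 0) (hv0 : v ≠ 0)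
    (h : (RR hF u hu).map (toAut A ρ).toMonoidHom = RR hF v hv) (hN : 3 ≤ N) :
    ∃ c : F, c ≠ 0 ∧ S A ρ u = c • v := by
  have hSu : hermForm N F q (S A ρ u) (S A ρ u) = 0 := by rw [S_herm, hu, map_zero]
  have h1 : RR hF v hv = RR hF (S A ρ u) hSu := by
    rw [← h]
    ext y
    constructor
    · rintro ⟨z, hz, rfl⟩
      exact (toAut_RR hF A ρ hu hSu rfl z).1 hz
    · intro hy
      obtain ⟨z, rfl⟩ := (toAut A ρ).surjective y
      exact ⟨z, (toAut_RR hF A ρ hu hSu rfl z).2 hy, rfl⟩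
  exact (RR_eq_iff hF hN hv0 (S_ne_zero A ρ hu0) hv hSu).1 h1

theorem siegel_of_Xb {a b : Fin m × Bool} (hab : a.1 ≠ b.1) (t : F)
    (hs : IsSiegel q ((toFrame W).b a) ((toFrame W).sc b t • (toFrame W).b b) 0) :
    Xb hF W a b t = ClassicalGeometry.PSUAutBasic.pr N F q (siegel hF _ _ 0 hs) := by
  have hm := X_mem hF W a b t
  have e : (toFrame W).X a b t = (HU hF N).sie ((toFrame W).b a) ((toFrame W).sc b t • (toFrame W).b b) 0
    ((toFrame W).hb_self a) ((toFrame W).h_smul_b hab _) := (toFrame W).X_eq hab t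
  have h1 : Xb hF W a b t = toPSU F q N ⟨_, e ▸ hm⟩ := by
    unfold Xb
    congr 1
    exact Subtype.ext e
  rw [h1]
  exact toPSU_sie hF _ _ ((PU hF N).sing_smul (b_sing W b) _) _

theorem b_ne (a : Fin m × Bool) : (toFrame W).b a ≠ 0 := by
  intro h
  have h1 := (toFrame W).hb_self_neg a
  rw [h, (HU hF N).zero_left] at h1
  exact (toFrame W).η_ne _ h1.symm

theorem eta (a : Fin m × Bool) : (toFrame W).η a = 1 := by
  unfold Frame.η
  split_ifs
  · rfl
  · rfl

theorem sc_eq (b : Fin m × Bool) (t : F) : (toFrame W).sc b t = -(t ^ q) := by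
  unfold Frame.sc
  rw [eta, HU_ε, inv_one, one_mul, one_mul]
  rfl

/-- the image of a root element -/
theorem map_Xb {A : GU N F q} {ρ : F ≃+* F} {a b a' b' : Fin m × Bool} (hab : a.1 ≠ b.1) (hab' : a'.1 ≠ b'.1)
    {α β : F} (h1 : S A ρ ((toFrame W).b a) = α • (toFrame W).b a') (h2 : S A ρ ((toFrame W).b b) = β • (toFrame W).b b')
    (t : F) : toAut A ρ (Xb hF W a b t) = Xb hF W a' b' (ρ t * α * β ^ q) := by
  have hs : IsSiegel q ((toFrame W).b a) ((toFrame W).sc b t • (toFrame W).b b) 0 :=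
    isSiegel_of hF ((toFrame W).hb_self a) ((toFrame W).h_smul_b hab _) ((PU hF N).sing_smul (b_sing W b) _)
  have hs' : IsSiegel q ((toFrame W).b a') ((toFrame W).sc b' (ρ t * α * β ^ q) • (toFrame W).b b') 0 :=
    isSiegel_of hF ((toFrame W).hb_self a') ((toFrame W).h_smul_b hab' _) ((PU hF N).sing_smul (b_sing W b') _)
  rw [siegel_of_Xb hab t hs, siegel_of_Xb hab' _ hs', toAut_pr', semiConj_siegel]
  congr 1
  apply ext_act
  intro v
  rw [act_siegel, act_siegel]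
  have e1 : (gm A *ᵥ fun i => ρ ((toFrame W).b a i)) = α • (toFrame W).b a' := h1
  have e2 : (gm A *ᵥ fun i => ρ (((toFrame W).sc b t • (toFrame W).b b) i)) =
      (ρ (-(t ^ q)) * β) • (toFrame W).b b' := by
    have := S_smul A ρ ((toFrame W).sc b t) ((toFrame W).b b)
    rw [h2, sc_eq, smul_smul, ← sc_eq (W := W) b t] at this
    rw [← sc_eq (W := W) b t]
    exact this
  rw [e1, e2, sc_eq]
  simp only [herm_smul_right, map_zero, zero_mul, zero_sub, map_neg, map_pow]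
  have e3 : (ρ t * α * β ^ q) ^ q = ρ t ^ q * α ^ q * β := by
    rw [mul_pow, mul_pow, pow_q_pow_q hF]
  rw [e3]
  have e4 : (-(ρ t ^ q) * β) ^ q = -(ρ t * β ^ q) := by
    rw [neg_mul, neg_pow_q hF, mul_pow, pow_q_pow_q hF]
  have e5 : (-(ρ t ^ q * α ^ q * β)) ^ q = -(ρ t * α * β ^ q) := by
    rw [neg_pow_q hF, mul_pow, mul_pow, pow_q_pow_q hF, pow_q_pow_q hF]
  rw [e4, e5]
  funext i
  simp only [Pi.add_apply, Pi.smul_apply, smul_eq_mul]
  ring

theorem map_cj' {G : Type*} [Group G] (x : MulAut G) (g : G) (B : Subgroup G) :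
    (cj g B).map x.toMonoidHom = cj (x g) (B.map x.toMonoidHom) := by
  ext y
  rw [mem_cj]
  constructor
  · rintro ⟨z, hz, rfl⟩
    have hz' : g⁻¹ * z * g ∈ B := mem_cj.1 hz
    refine ⟨g⁻¹ * z * g, hz', ?_⟩
    show x (g⁻¹ * z * g) = (x g)⁻¹ * x z * x g
    rw [map_mul, map_mul, map_inv]
  · rintro ⟨z, hz, hzy⟩
    refine ⟨g * z * g⁻¹, ?_, ?_⟩
    · show _ ∈ cj g B
      rw [mem_cj]
      have : g⁻¹ * (g * z * g⁻¹) * g = z := by group
      rw [this]
      exact hz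
    · show x (g * z * g⁻¹) = y
      have hzy' : x z = (x g)⁻¹ * y * x g := hzy
      rw [map_mul, map_mul, map_inv, hzy']
      group

section Main

variable {W : WFrame (PU hF N) 2} {W' : Type*} [Group W'] [Finite W'] {cs : CoxeterSystem (CoxeterMatrix.B 2) W'}

/-- **The short node of `U₄(q)` is not in `J`.** -/
theorem zero_notMem (ho : Odd (Fintype.card F)) (hW : W.V0 = ⊥) {p : ℕ} {Tt : Subgroup (PSU N F q)}
    {nn : Fin 2 → PSU N F q} {x d : MulAut (PSU N F q)} {φ : W' ≃* W'} {σ : Fin 2 → Fin 2} {J : Set (Fin 2)}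
    {g : PSU N F q} (Nf : NF cs (isCartan 2) p Tt nn (X (KInstU.model hF hN W)) x d φ σ J g)
    (hσ : ∀ i, σ i = i) : (0 : Fin 2) ∉ J := by
  intro h0
  have : Fintype W' := Fintype.ofFinite W'
  have H := Nf.nx
  have h1 : (1 : Fin 2) ∉ J := J_sep H h0 rfl
  have hJ : ∀ k ∈ J, k = 0 := by
    intro k hk
    fin_cases k
    · rfl
    · exact absurd hk h1
  have hmap : ∀ a b : Fin 2 × Bool, Ok a b → (X (KInstU.model hF hN W) (rt a b)).map x.toMonoidHom =
      X (KInstU.model hF hN W) (rt (sg 0 a) (sg 0 b)) := by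
    intro a b hab
    rw [map_root H hσ (isRoot_rt cs hab), wJ_rt_one H h0 fun k hk hk0 => absurd (hJ k hk) hk0]
  have s0 : ∀ s, sg (0 : Fin 2) (0, s) = (1, s) := fun s => sg_up (i := (0 : Fin 2)) (by norm_num) s
  have s1 : ∀ s, sg (0 : Fin 2) (1, s) = (0, s) := fun s => sg_down (i := (0 : Fin 2)) (by norm_num) s
  have hq : Odd q := odd_q' hF ho
  obtain ⟨A, ρ, rfl⟩ := exists_toAut hF hN (fun h => by rw [h.2] at hq; exact absurd hq (by decide)) x
  have hxx : toAut A ρ * toAut A ρ = 1 := by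
    ext k
    exact Nf.xx k
  have hS : ∀ a, ∃ c : F, c ≠ 0 ∧ S A ρ ((toFrame W).b a) = c • (toFrame W).b (sg 0 a) := by
    intro a
    refine mem_RR_iff_map (hF := hF) (b_iso a) (b_iso _) (b_ne a) (b_ne _) ?_ hN
    have := hmap a a (Or.inr rfl)
    rw [X_rt_self hW, X_rt_self hW] at this
    exact this
  obtain ⟨α, hα, e0⟩ := hS (0, true)
  obtain ⟨β, hβ, e1⟩ := hS (1, true)
  obtain ⟨α', hα', f0⟩ := hS (0, false)
  rw [s0] at e0 f0
  rw [s1] at e1
  -- the form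
  have hn : α * α' ^ q = 1 := by
    have h2 := S_herm A ρ ((toFrame W).b (0, true)) ((toFrame W).b (0, false))
    have h3 : hermForm N F q ((toFrame W).b (0, true)) ((toFrame W).b (0, false)) = 1 := (toFrame W).hb _ _
    have h4 : hermForm N F q ((toFrame W).b (1, true)) ((toFrame W).b (1, false)) = 1 := (toFrame W).hb _ _
    rw [e0, f0, herm_smul_left, herm_smul_right, h3, h4, map_one, mul_one] at h2
    exact h2
  obtain ⟨t, ht0, ht⟩ := exists_t hF hN ho hxx hα hβ (b_ne (W := W) (0, true)) e0 e1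
  have hne : ((1, true) : Fin 2 × Bool).1 ≠ ((0, false) : Fin 2 × Bool).1 := by decide
  have hne' : ((0, true) : Fin 2 × Bool).1 ≠ ((1, false) : Fin 2 × Bool).1 := by decide
  have hk : toAut A ρ (Xb hF W (1, true) (0, false) t) = Xb hF W (0, true) (1, false) t⁻¹ := by
    rw [map_Xb hne hne' e1 f0]
    congr 1
    refine eq_inv_of_mul_eq_one_left ?_
    calc ρ t * β * α' ^ q * t = (t * ρ t * β) * α' ^ q := by ring
      _ = 1 := by rw [ht, hn]
  -- the simple roots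
  have hnx : nx (0 : Fin 2) = (1, false) := by
    unfold nx
    rw [dif_pos (by norm_num)]
    rfl
  have r0 : sr (0 : Fin 2) = rt (0, true) (1, false) := by rw [sr_eq_rt, hnx]
  have r1 : -sr (0 : Fin 2) = rt (1, true) (0, false) := by
    rw [r0, ← rt_ng, rt_comm]
    rfl
  have hmem : Xb hF W (1, true) (0, false) t ∈ X (KInstU.model hF hN W) (-sr 0) := by
    rw [r1]
    exact (mem_X_rt hne).2 ⟨t, rfl⟩
  refine Nf.ell 0 h0 (Xb hF W (1, true) (0, false) t) ((le_sup_right : _ ≤ RA _ _) hmem) ?_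
  have h5 := hmap (0, true) (1, false) (Or.inl hne')
  rw [s0, s1] at h5
  rw [map_cj', hk, r0, h5]
  have h6 := cj_rel (hF := hF) (hN := hN) (W := W) hne ht0
  exact h6.symm

end Main

end Cfsg.Agent.H858.UFour
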