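import Mathlib
import Cfsg.Agent.H506.NRowDef
import Cfsg.Agent.H532.CopAct
import Cfsg.Agent.H532.Thr.Com
import Cfsg.Agent.H459.Rad
import Cfsg.Agent.Lib.PSolvable
import Cfsg.Agent.Lib.Cores

/-!
# S4307, Theorem N, row R1: groups of Lie type of characteristic 2, the Tits group, the sporadic groups (helper858)

A nice involution `x` has `O(C(x)) ≠ 1` (`no_nice`).
-/

set_option autoImplicit false
set_option linter.unusedSectionVars false

namespace Cfsg.Agent.H858.NRowTwo

open Subgroup Cfsg Cfsg.Agent.Lib Cfsg.Agent.H532.Thr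

universe u

section HH

variable {X : Type*} [Group X] [Finite X] {q : ℕ} [hq : Fact q.Prime]

/-- a normal nilpotent subgroup, if all `O_r(X)`, `r` odd, are trivial -/
theorem nilp_le (hO : pPrimeCore 2 X = ⊥) {L : Subgroup X} (hL : L.Normal) (hn : Group.IsNilpotent L) :
    L ≤ pCore 2 X := by
  refine (Cores.le_fittingSubgroup hL hn).trans ?_
  rw [Cores.fittingSubgroup_eq_iSup_pCore]
  refine iSup_le fun r => ?_
  by_cases h2 : (r : ℕ) = 2
  · rw [h2]
  · have : Fact (r : ℕ).Prime := ⟨r.2⟩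
    have h1 : pCore (r : ℕ) X ≤ pPrimeCore 2 X := by
      refine Cores.le_pPrimeCore (Cores.pCore_normal (r : ℕ)) ?_
      obtain ⟨k, hk⟩ := (IsPGroup.iff_card (p := (r : ℕ))).1 (Cores.pCore_isPGroup (G := X) (r : ℕ))
      rw [hk]
      exact Nat.Coprime.pow_left k ((Nat.coprime_primes this.out Nat.prime_two).2 h2)
    rw [hO, le_bot_iff] at h1
    rw [h1]
    exact bot_le

theorem pCore_two_le (hq2 : q ≠ 2) : pCore 2 X ≤ pPrimeCore q X := by
  have : Fact (Nat.Prime 2) := ⟨Nat.prime_two⟩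
  refine Cores.le_pPrimeCore (Cores.pCore_normal 2) ?_
  obtain ⟨k, hk⟩ := (IsPGroup.iff_card (p := 2)).1 (Cores.pCore_isPGroup (G := X) 2)
  rw [hk]
  exact Nat.Coprime.pow_left k ((Nat.coprime_primes Nat.prime_two hq.out).2 hq2.symm)

/-- Hall-Higman for `O_{q'}` -/
theorem centralizer_le (hq2 : q ≠ 2) (hs : IsPSolvable q X) (hO : pPrimeCore 2 X = ⊥) :
    centralizer (pPrimeCore q X : Set X) ≤ pPrimeCore q X := by
  set K := pPrimeCore q X with hK
  have hKn : K.Normal := Cores.pPrimeCore_normal q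
  have hCn : (centralizer (K : Set X)).Normal := inferInstance
  by_contra hle
  have hlt : centralizer (K : Set X) ⊓ K < centralizer (K : Set X) :=
    lt_of_le_of_ne inf_le_left fun h => hle (inf_eq_left.1 h)
  obtain ⟨L, hL, hlt2, hLC, h⟩ := PSolvable.sep_of_pSolvable q hs _ _ inferInstance hCn hlt
  suffices hLK : L ≤ K by
    exact absurd (le_inf hLC hLK) (not_le_of_gt hlt2)
  have hcard : Nat.card ↥(centralizer (K : Set X) ⊓ K) * (centralizer (K : Set X) ⊓ K).relIndex L = Nat.card L :=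
    HallHigman.card_mul_relIndex' hlt2.le
  rcases h with ⟨m, hm⟩ | hc
  · refine (nilp_le hO hL ?_).trans (pCore_two_le hq2)
    -- `L` is nilpotent
    set Z : Subgroup L := (centralizer (K : Set X) ⊓ K).subgroupOf L with hZ
    have hZc : Z ≤ center L := by
      intro z hz
      rw [mem_center_iff]
      intro l
      apply Subtype.ext
      have h1 : ((z : L) : X) ∈ K := (mem_subgroupOf.1 hz).2
      exact (mem_centralizer_iff.1 (hLC l.2) _ h1).symm
    have hZn : Z.Normal := inferInstance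
    have hp : IsPGroup q (L ⧸ Z) := by
      rw [IsPGroup.iff_card]
      exact ⟨m, hm⟩
    have : Group.IsNilpotent (L ⧸ Z) := hp.isNilpotent
    exact Subgroup.isNilpotent_of_ker_le_center (QuotientGroup.mk' Z) (by rw [QuotientGroup.ker_mk']; exact hZc)
  · refine Cores.le_pPrimeCore hL ?_
    rw [← hcard]
    refine Nat.Coprime.mul_left ?_ hc
    exact Nat.Coprime.coprime_dvd_left (card_dvd_of_le inf_le_right) (Cores.pPrimeCore_coprime q)

/-- an element of order `q` which moves an element by an element commuting with it -/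
theorem comm_of_pow {b s : X} (hb : b ^ q = 1) (hu : b * (b * s * b⁻¹ * s⁻¹) = (b * s * b⁻¹ * s⁻¹) * b)
    (hc : (orderOf (b * s * b⁻¹ * s⁻¹)).Coprime q) : b * s = s * b := by
  set u := b * s * b⁻¹ * s⁻¹ with hudef
  have h1 : ∀ n : ℕ, b ^ n * s * (b ^ n)⁻¹ = u ^ n * s := by
    intro n
    induction n with
    | zero => simp
    | succ n ih =>
      have h2 : b * u ^ n = u ^ n * b := (Commute.pow_right (show Commute b u from hu) n).eq
      calc b ^ (n + 1) * s * (b ^ (n + 1))⁻¹ = b * (b ^ n * s * (b ^ n)⁻¹) * b⁻¹ := by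
            rw [pow_succ']; group
        _ = b * u ^ n * s * b⁻¹ := by rw [ih]; group
        _ = u ^ n * (b * s * b⁻¹ * s⁻¹) * s := by rw [h2]; group
        _ = u ^ (n + 1) * s := by rw [← hudef, pow_succ]
  have h2 := h1 q
  rw [hb, inv_one, one_mul, mul_one] at h2
  have h3 : u ^ q = 1 := by
    have := mul_eq_right.1 h2.symm
    exact this
  have h4 : orderOf u ∣ Nat.gcd (orderOf u) q := Nat.dvd_gcd dvd_rfl (orderOf_dvd_of_pow_eq_one h3)
  rw [hc, Nat.dvd_one, orderOf_eq_one_iff] at h4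
  have h5 : b * s * b⁻¹ * s⁻¹ = 1 := h4
  calc b * s = (b * s * b⁻¹ * s⁻¹) * (s * b) := by group
    _ = s * b := by rw [h5, one_mul]

end HH

variable {X : Type u} [Group X] [Finite X] {q : ℕ} [hq : Fact q.Prime]

/-- the main lemma -/
theorem no_nice (h5 : ∀ (L : Type u) [Group L] [Finite L] (b : MulAut L), b ^ q = 1 → ¬ q ∣ Nat.card L →
      (∀ f : ℕ, f.Prime → f ∣ (fix b).index → q ∣ f - 1) → Group.IsSolvable ↥(com b))
    (hq2 : q ≠ 2) (hs : IsPSolvable q X) (hO : pPrimeCore 2 X = ⊥) (Q : Sylow q X)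
    (hdvd : q ∣ Nat.card X)
    (hQ : ∀ f : ℕ, f.Prime → f ≠ q → ¬ q ∣ f - 1 → ∀ M : Subgroup X, IsPGroup f M →
      (∀ y ∈ Q, ∀ m ∈ M, y * m * y⁻¹ ∈ M) → ∀ y ∈ Q, ∀ m ∈ M, y * m = m * y) : False := by
  have f2 : Fact (Nat.Prime 2) := ⟨Nat.prime_two⟩
  -- an element of order `q`
  have hQd : q ∣ Nat.card Q := by
    rw [Q.card_eq_multiplicity]
    exact dvd_pow_self q (by
      have := (hq.out.dvd_iff_one_le_factorization (Nat.card_pos (α := X)).ne').1 hdvd
      omega)
  obtain ⟨b', hb'⟩ := exists_prime_orderOf_dvd_card' q hQd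
  obtain ⟨b, hbQ⟩ := b'
  have hbo : orderOf b = q := by rw [← hb', Subgroup.orderOf_mk]
  have hbq : b ^ q = 1 := by rw [← hbo]; exact pow_orderOf_eq_one b
  set K := pPrimeCore q X with hK
  have hKn : K.Normal := Cores.pPrimeCore_normal q
  have hKc : (Nat.card K).Coprime q := Cores.pPrimeCore_coprime q
  -- it is enough that `b` centralises `K`
  suffices hbK : ∀ k ∈ K, b * k = k * b by
    have h1 : b ∈ centralizer (K : Set X) := by
      rw [mem_centralizer_iff]
      intro k hk
      exact (hbK k hk).symm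
    have h2 : b ∈ K := centralizer_le hq2 hs hO h1
    have h3 : q ∣ Nat.card K := by
      rw [← hbo]
      exact Subgroup.orderOf_dvd_natCard K h2
    have h4 : q ∣ 1 := by
      rw [← hKc]
      exact Nat.dvd_gcd h3 dvd_rfl
    exact hq.out.one_lt.ne' (Nat.dvd_one.1 h4)
  -- the automorphism
  set β : MulAut K := MulAut.conjNormal b with hβ
  have hβv : ∀ k : K, ((β k : K) : X) = b * k * b⁻¹ := fun k => MulAut.conjNormal_apply b k
  have hβq : β ^ q = 1 := by rw [hβ, ← map_pow, hbq, map_one]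
  have hqK : ¬ q ∣ Nat.card K := fun h => by
    have h4 : q ∣ 1 := by
      rw [← hKc]
      exact Nat.dvd_gcd h dvd_rfl
    exact hq.out.one_lt.ne' (Nat.dvd_one.1 h4)
  have hind : ∀ f : ℕ, f.Prime → f ∣ (fix β).index → q ∣ f - 1 := by
    intro f hf hfi
    by_contra hnd
    have hfF : Fact f.Prime := ⟨hf⟩
    have hfq : f ≠ q := by
      rintro rfl
      exact hqK (hfi.trans (index_dvd_card _))
    let act : MulDistribMulAction (Q : Subgroup X) K := MulDistribMulAction.compHom K
      ((MulAut.conjNormal (H := K)).comp (Q : Subgroup X).subtype)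
    have hact : ∀ (a : (Q : Subgroup X)) (k : K), ((a • k : K) : X) = (a : X) * k * (a : X)⁻¹ :=
      fun a k => MulAut.conjNormal_apply (a : X) k
    have hcop : (Nat.card (Q : Subgroup X)).Coprime (Nat.card K) := by
      obtain ⟨j, hj⟩ := IsPGroup.iff_card.1 Q.isPGroup'
      rw [hj]
      exact Nat.Coprime.pow_left j hKc.symm
    have hsol : Group.IsSolvable (Q : Subgroup X) := by
      have := Q.isPGroup'.isNilpotent
      infer_instance
    obtain ⟨⟨P, hP⟩, -⟩ := H532.CopAct.inv_sylow (A := (Q : Subgroup X)) (G := K) hcop (Or.inl hsol) f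
    have hPinv : ∀ (a : (Q : Subgroup X)) (k : K), k ∈ (P : Subgroup K) → a • k ∈ (P : Subgroup K) :=
      fun a k hk => H532.CopAct.smul_mem_of_smul_eq P hP a hk
    have hcom := hQ f hf hfq hnd ((P : Subgroup K).map K.subtype) (P.isPGroup'.map _) (by
      rintro y hy _ ⟨k, hk, rfl⟩
      exact ⟨_, hPinv ⟨y, hy⟩ k hk, hact ⟨y, hy⟩ k⟩)
    have hPle : (P : Subgroup K) ≤ fix β := by
      intro k hk
      change β k = k
      apply Subtype.ext
      have h1 : b * (k : X) = (k : X) * b := hcom b hbQ _ (mem_map_of_mem _ hk)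
      rw [hβv, h1, mul_inv_cancel_right]
    exact P.not_dvd_index (hfi.trans (index_dvd_of_le hPle))
  have hsolv := h5 K β hβq hqK hind
  -- the solvable radical
  obtain ⟨hRc, hRs, hRm⟩ := H459.Rad.rad_spec K
  have hcom : com β ≤ solvableRadical K := hRm _ (by infer_instance) hsolv
  set S : Subgroup X := (solvableRadical K).map K.subtype with hS
  have hSn : S.Normal := by
    rw [hS]
    infer_instance
  have hSs : Group.IsSolvable S :=
    Group.isSolvable_of_isSolvable_injective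
      (f := ((solvableRadical K).equivMapOfInjective K.subtype K.subtype_injective).symm.toMonoidHom)
      ((solvableRadical K).equivMapOfInjective K.subtype K.subtype_injective).symm.injective
  have hSK : S ≤ K := map_subtype_le _
  have hSO : pPrimeCore 2 S = ⊥ := by
    have h1 := Cores.map_subtype_pPrimeCore 2 hSn
    rw [hO, inf_bot_eq, Subgroup.map_eq_bot_iff_of_injective _ S.subtype_injective] at h1
    exact h1
  have hSC := HallHigman.centralizer_pCore_le_of_solvable (G := S) 2 hSO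
  have hPeq := Cores.map_subtype_pCore 2 hSn
  have hP2 : ∀ x ∈ S ⊓ pCore 2 X, b * x = x * b := by
    have hp : IsPGroup 2 ↥(S ⊓ pCore 2 X) := (Cores.pCore_isPGroup 2).to_le inf_le_right
    have hn : (S ⊓ pCore 2 X).Normal := by
      have := Cores.pCore_normal (G := X) 2
      infer_instance
    refine hQ 2 Nat.prime_two hq2.symm (fun h => hq.out.one_lt.ne' (Nat.dvd_one.1 h)) _ hp
      (fun y _ m hm => hn.conj_mem m hm y) b hbQ
  have hbS : ∀ s ∈ S, b * s = s * b := by
    intro s hs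
    set w := b * s * b⁻¹ * s⁻¹ with hw
    have hwS : w ∈ S := S.mul_mem (hSn.conj_mem s hs b) (S.inv_mem hs)
    have hwc : (⟨w, hwS⟩ : S) ∈ centralizer (pCore 2 S : Set S) := by
      rw [mem_centralizer_iff]
      intro x hx
      have hx' : ((x : S) : X) ∈ S ⊓ pCore 2 X := by
        rw [← hPeq]
        exact mem_map_of_mem _ hx
      have hn : (S ⊓ pCore 2 X).Normal := by
        have := Cores.pCore_normal (G := X) 2
        infer_instance
      have h1 : s⁻¹ * (x : X) * s ∈ S ⊓ pCore 2 X := by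
        have := hn.conj_mem _ hx' s⁻¹
        rwa [inv_inv] at this
      have h2 := hP2 _ h1
      have h3 := hP2 _ hx'
      apply Subtype.ext
      change (x : X) * w = w * (x : X)
      have h4 : w * (x : X) = (x : X) * w := by
        calc w * (x : X) = b * s * b⁻¹ * (s⁻¹ * (x : X) * s) * s⁻¹ := by rw [hw]; group
          _ = b * s * (b⁻¹ * ((s⁻¹ * (x : X) * s) * b)) * b⁻¹ * s⁻¹ := by group
          _ = b * s * (b⁻¹ * (b * (s⁻¹ * (x : X) * s))) * b⁻¹ * s⁻¹ := by rw [h2]
          _ = (b * (x : X)) * s * b⁻¹ * s⁻¹ := by group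
          _ = ((x : X) * b) * s * b⁻¹ * s⁻¹ := by rw [h3]
          _ = (x : X) * w := by rw [hw]; group
      exact h4.symm
    have hwP : w ∈ S ⊓ pCore 2 X := by
      rw [← hPeq]
      exact ⟨⟨w, hwS⟩, hSC hwc, rfl⟩
    refine comm_of_pow hbq (hP2 w hwP) ?_
    have h5 : IsPGroup 2 (pCore 2 X) := Cores.pCore_isPGroup 2
    obtain ⟨j, hj⟩ := IsPGroup.iff_orderOf.1 h5 ⟨w, hwP.2⟩
    rw [Subgroup.orderOf_mk] at hj
    rw [hj]
    exact Nat.Coprime.pow_left j ((Nat.coprime_primes Nat.prime_two hq.out).2 hq2.symm)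
  intro k hk
  have h1 : β ⟨k, hk⟩ * (⟨k, hk⟩ : K)⁻¹ ∈ solvableRadical K := hcom (mem_com β ⟨k, hk⟩)
  have h2 : b * k * b⁻¹ * k⁻¹ ∈ S := ⟨_, h1, by
    rw [map_mul, map_inv]
    change ((β ⟨k, hk⟩ : K) : X) * k⁻¹ = _
    rw [hβv]⟩
  refine comm_of_pow hbq (hbS _ h2) ?_
  exact Nat.Coprime.coprime_dvd_left (Subgroup.orderOf_dvd_natCard K (hSK h2)) hKc

open Cfsg.Agent.H506.NRow

/-- a nice involution has a centraliser with a core -/
theorem not_nice (h5 : ∀ (L : Type u) [Group L] [Finite L] (b : MulAut L), b ^ q = 1 → ¬ q ∣ Nat.card L →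
      (∀ f : ℕ, f.Prime → f ∣ (fix b).index → q ∣ f - 1) → Group.IsSolvable ↥(com b))
    {T : Type u} [Group T] [Finite T] (hq2 : q ≠ 2) (hqT : q ∣ Nat.card T) {x : T}
    (hO : pPrimeCore 2 ↥(centralizer ({x} : Set T)) = ⊥) : ¬ Nice q x := by
  rintro ⟨hs, Q, hQ, hN⟩
  have hle : (Q : Subgroup T) ≤ centralizer ({x} : Set T) := fun y hy => mem_centralizer_singleton_iff.2 (hQ y hy)
  refine no_nice h5 (X := centralizer ({x} : Set T)) hq2 hs hO
    (Q.subtype hle) ?_ ?_
  · have h1 : q ∣ Nat.card Q := by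
      rw [Q.card_eq_multiplicity]
      exact dvd_pow_self q (by
        have := (hq.out.dvd_iff_one_le_factorization (Nat.card_pos (α := T)).ne').1 hqT
        omega)
    exact h1.trans (card_dvd_of_le hle)
  · intro f hf hfq hnd M hM hinv y hy m hm
    have hy' : (y : T) ∈ Q := hy
    have h1 := hN f hf hfq hnd (M.map (centralizer ({x} : Set T)).subtype) (hM.map _) (map_subtype_le _) (by
      intro z hz
      have key : ∀ z ∈ (Q : Subgroup T), ∀ w ∈ M.map (centralizer ({x} : Set T)).subtype,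
          z * w * z⁻¹ ∈ M.map (centralizer ({x} : Set T)).subtype := by
        rintro z hz _ ⟨w, hw, rfl⟩
        exact ⟨⟨z, hle hz⟩ * w * (⟨z, hle hz⟩)⁻¹, hinv ⟨z, hle hz⟩ hz w hw, rfl⟩
      rw [mem_normalizer_iff]
      intro w
      constructor
      · exact key z hz w
      · intro hw
        have := key z⁻¹ (inv_mem hz) _ hw
        have e : z⁻¹ * (z * w * z⁻¹) * z⁻¹⁻¹ = w := by group
        rwa [e] at this) y hy' m (mem_map_of_mem _ hm)
    exact Subtype.ext h1

end Cfsg.Agent.H858.NRowTwo
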