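import Mathlib
import Cfsg.Agent.H858.NRowTwoA
import Cfsg.Agent.H516.GoodSpor
import Cfsg.Agent.EvenType.ChevTwo
import Cfsg.Agent.CpAut.TwoAbs

/-!
# S4307, Theorem N, row R1: groups of Lie type of characteristic 2, the Tits group, the sporadic groups (helper858)
-/

set_option autoImplicit false
set_option linter.unusedSectionVars false

namespace Cfsg.Agent.H858.NRowTwo

open Subgroup Cfsg Cfsg.Agent.Lib Cfsg.Agent.H532.Thr Cfsg.Agent.H506.NRow

universe u

/-- the cores of the centralisers of the involutions are trivial -/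
theorem core_bot {T : Type u} [Group T] [Finite T] [IsSimpleGroup T] (hna : ¬ IsMulCommutative T)
    (h : IsLieTypeChar 2 T ∨ Lie.IsoTits T ∨ IsSporadicGroup T) {x : T} (hx : orderOf x = 2) :
    centralizerPPrimeCore 2 x = ⊥ := by
  rcases h with h | h | h
  · have h1 := EvenType.ChevTwo.charTwo hna (Or.inl h)
    have h2 : IsPGroup 2 (zpowers x) := IsPGroup.of_card (n := 1) (by rw [Nat.card_zpowers, hx, pow_one])
    have h3 := CpAut.TwoAbs.core_of_ct (h1.2 _ h2 (by
      intro h1
      rw [zpowers_eq_bot] at h1
      rw [h1, orderOf_one] at hx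
      norm_num at hx))
    have hx1 : x ≠ 1 := by
      rintro rfl
      rw [orderOf_one] at hx
      norm_num at hx
    have h4 : normalizer ((zpowers x : Subgroup T) : Set T) = centralizer ({x} : Set T) := by
      ext g
      rw [mem_normalizer_iff, mem_centralizer_singleton_iff]
      constructor
      · intro hg
        have h5 : g * x * g⁻¹ ∈ zpowers x := (hg x).1 (mem_zpowers x)
        obtain ⟨k, hk⟩ := mem_zpowers_iff.1 h5
        rcases Int.even_or_odd' k with ⟨j, rfl | rfl⟩
        · exfalso
          apply hx1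
          have h6 : x ^ (2 * j) = 1 := by
            rw [zpow_mul, zpow_ofNat, ← hx, pow_orderOf_eq_one, one_zpow]
          rw [h6] at hk
          have h7 : x = g⁻¹ * 1 * g := by rw [hk]; group
          rw [h7]; group
        · have h6 : x ^ (2 * j + 1) = x := by
            rw [zpow_add, zpow_mul, zpow_ofNat, ← hx, pow_orderOf_eq_one, one_zpow, one_mul, zpow_one]
          rw [h6] at hk
          calc g * x = g * x * g⁻¹ * g := by group
            _ = x * g := by rw [← hk]
      · intro hg y
        have key : ∀ j : ℤ, g * x ^ j * g⁻¹ = x ^ j := by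
          intro j
          have : Commute g (x ^ j) := (show Commute g x from hg).zpow_right j
          rw [this.eq, mul_inv_cancel_right]
        constructor
        · rintro ⟨j, rfl⟩
          exact ⟨j, (key j).symm⟩
        · rintro ⟨j, hj⟩
          refine ⟨j, ?_⟩
          have h5 : g⁻¹ * (x ^ j) * g = y := by
            have : x ^ j = g * y * g⁻¹ := hj
            rw [this]; group
          have h6 : g⁻¹ * (x ^ j) * g = x ^ j := by
            have h7 := key j
            calc g⁻¹ * (x ^ j) * g = g⁻¹ * (g * x ^ j * g⁻¹) * g := by rw [h7]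
              _ = x ^ j := by group
          show x ^ j = y
          rw [← h5, h6]
    rw [h4] at h3
    exact CTwoTab.centralizerPPrimeCore_eq_bot_iff.2 h3
  · exact H516.core_of_spor (Or.inr h) x hx
  · exact H516.core_of_spor (Or.inl h) x hx

/-- **row R1** -/
theorem not_nctx' {q : ℕ} (h5 : ∀ (L : Type u) [Group L] [Finite L] (b : MulAut L), b ^ q = 1 → ¬ q ∣ Nat.card L →
      (∀ f : ℕ, f.Prime → f ∣ (fix b).index → q ∣ f - 1) → Group.IsSolvable ↥(com b)) {T : Type u} [Group T] [Finite T] [IsSimpleGroup T] (hna : ¬ IsMulCommutative T)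
    (h : IsLieTypeChar 2 T ∨ Lie.IsoTits T ∨ IsSporadicGroup T) : ¬ NCtx q T := by
  intro hN
  have : Fact q.Prime := ⟨hN.prime⟩
  obtain ⟨x, hx, hn⟩ := hN.inv
  exact not_nice h5 hN.odd hN.dvd (CTwoTab.centralizerPPrimeCore_eq_bot_iff.1 (core_bot hna h hx)) hn

end Cfsg.Agent.H858.NRowTwo
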