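import Cfsg.Agent.H858.Loc5
import Cfsg.Agent.Lib.FrattiniBasic

/-!
# The special 2-group of order `2^15` of `J4`
-/

set_option autoImplicit false

open Cfsg

namespace Cfsg.Agent.H858.LGrp

open Cfsg.Agent.Lib.F2MatGroup
open Cfsg.Agent.J4.Rep112 Cfsg.Agent.J4.Pres Cfsg.Agent.J4.M24Hom
open Cfsg.Agent.J4.Beta Cfsg.Agent.J4.Classes
open Cfsg.Agent.H858.VK Cfsg.Agent.H858.Data Cfsg.Agent.H858.Elem Cfsg.Agent.H858.Pent
open Cfsg.Agent.H858.Norm57 Cfsg.Agent.H858.Abs Cfsg.Agent.StdL2.G23Aut Cfsg.Agent.H858.Loc7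
open Cfsg.Agent.H858.Loc5

/-- the group `Spor.J4` -/
local notation "𝒢" => Cfsg.Spor.J4

/-! ### Conjugates by `t` -/

/-- `t V(v) t` -/
noncomputable def T (v : ℕ) : 𝒢 := t * V v * t

theorem t_inv : (t : 𝒢)⁻¹ = t := inv_eq_of_mul_eq_one_left t_sq

theorem T_eq (v : ℕ) : T v = t * V v * t⁻¹ := by rw [t_inv]; rfl

theorem T_xor (v w : ℕ) : T (v ^^^ w) = T v * T w := by
  rw [T_eq, T_eq, T_eq, V_xor]; group

theorem T_zero : T 0 = 1 := by rw [T_eq, V_zero]; group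

theorem T_sq (v : ℕ) : T v * T v = 1 := by rw [← T_xor, Nat.xor_self, T_zero]

theorem T_inv (v : ℕ) : (T v)⁻¹ = T v := inv_eq_of_mul_eq_one_left (T_sq v)

theorem t_T (v : ℕ) : t * T v * t = V v := by
  unfold T
  calc t * (t * V v * t) * t = (t * t) * V v * (t * t) := by group
    _ = V v := by rw [t_sq, one_mul, mul_one]

theorem T_comm (v w : ℕ) : T v * T w = T w * T v := by
  rw [← T_xor, ← T_xor, Nat.xor_comm]

/-- on `Z` the conjugation by `t` is trivial -/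
theorem T_zl {u : ℕ} : T (lin zl u) = V (lin zl u) := by
  have h1 : V (lin zl u) ∈ Z := ⟨u, rfl⟩
  have h2 := Subgroup.mem_centralizer_iff.1 t_cent _ h1
  rw [T_eq, ← h2, mul_inv_cancel_right]

/-! ### Commutators -/

/-- the basis vectors -/
theorem comm_VT {i k : ℕ} (hi : i < 6) (hk : k < 6) :
    V (ul.getD i 0) * T (ul.getD k 0) * V (ul.getD i 0) * T (ul.getD k 0) =
      V ((cm.getD i []).getD k 0) := by
  have h0 : ∀ i < 6, ∀ k < 6, (bb (ul.getD i 0) ++ tu (ul.getD k 0) ++ bb (ul.getD i 0) ++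
      tu (ul.getD k 0), bb ((cm.getD i []).getD k 0)) ∈ eqsX := by decide +kernel
  have h := eqX (h0 i hi k hk)
  simp only [evG_append, evG_bb, evG_tu] at h
  exact h

theorem cm_mem {i k : ℕ} (hi : i < 6) (hk : k < 6) : V ((cm.getD i []).getD k 0) ∈ Z := by
  have h0 : ∀ i < 6, ∀ k < 6, ∃ u < 8, lin zl u = (cm.getD i []).getD k 0 := by decide +kernel
  obtain ⟨u, -, h⟩ := h0 i hi k hk
  exact mem_span_of u h

theorem T_cent (v : ℕ) : T v ∈ Subgroup.centralizer (Z : Set 𝒢) :=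
  Subgroup.mul_mem _ (Subgroup.mul_mem _ t_cent (V_cent v)) t_cent

theorem Z_comm {x y : 𝒢} (hx : x ∈ Subgroup.centralizer (Z : Set 𝒢)) (hy : y ∈ Z) :
    x * y = y * x := (Subgroup.mem_centralizer_iff.1 hx y hy).symm

/-- `T a` maps `x` to `x V(c)` -/
def PP (x : 𝒢) (a c : ℕ) : Prop := T a * x * (T a)⁻¹ = x * V c ∧ V c ∈ Z

theorem PP.zero (x : 𝒢) : PP x 0 0 := by
  refine ⟨?_, ?_⟩
  · rw [T_zero, V_zero]; group
  · rw [V_zero]; exact Z.one_mem

theorem PP.xor {x : 𝒢} {a c a' c' : ℕ} (h : PP x a c) (h' : PP x a' c') :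
    PP x (a ^^^ a') (c ^^^ c') := by
  refine ⟨?_, ?_⟩
  · rw [T_xor, V_xor]
    have h1 := Z_comm (T_cent a) h'.2
    calc T a * T a' * x * (T a * T a')⁻¹ = T a * (T a' * x * (T a')⁻¹) * (T a)⁻¹ := by group
      _ = T a * (x * V c') * (T a)⁻¹ := by rw [h'.1]
      _ = (T a * x * (T a)⁻¹) * (T a * V c' * (T a)⁻¹) := by group
      _ = x * V c * V c' := by rw [h.1, h1, mul_inv_cancel_right]
      _ = x * (V c * V c') := by rw [mul_assoc]
  · rw [V_xor]; exact Z.mul_mem h.2 h'.2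

theorem PP.lin {x : 𝒢} {A C : List ℕ} (h : List.Forall₂ (PP x) A C) (q : ℕ) :
    PP x (lin A q) (lin C q) := by
  induction h generalizing q with
  | nil => exact PP.zero x
  | cons h1 _ ih =>
    rw [lin_cons, lin_cons]
    split_ifs
    · exact h1.xor (ih _)
    · exact ih _

theorem PP_basis {i k : ℕ} (hi : i < 6) (hk : k < 6) :
    PP (V (ul.getD i 0)) (ul.getD k 0) ((cm.getD i []).getD k 0) := by
  refine ⟨?_, cm_mem hi hk⟩
  have h := comm_VT hi hk
  rw [← h, T_inv]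
  calc T (ul.getD k 0) * V (ul.getD i 0) * T (ul.getD k 0)
      = (V (ul.getD i 0) * V (ul.getD i 0)) * (T (ul.getD k 0) * V (ul.getD i 0) *
        T (ul.getD k 0)) := by rw [V_sq, one_mul]
    _ = V (ul.getD i 0) * (V (ul.getD i 0) * T (ul.getD k 0) * V (ul.getD i 0) *
        T (ul.getD k 0)) := by simp only [mul_assoc]

theorem PP_lin {i : ℕ} (hi : i < 6) (q : ℕ) :
    PP (V (ul.getD i 0)) (lin ul q) (lin (cm.getD i []) q) := by
  apply PP.lin
  have h0 : ∀ i < 6, (cm.getD i []).length = 6 := by decide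
  rw [List.forall₂_iff_get]
  refine ⟨(h0 i hi).symm, ?_⟩
  intro k h1 h2
  have hk : k < 6 := h1
  have h3 := PP_basis hi hk
  rw [List.getD_eq_getElem?_getD (l := ul) (i := k), List.getElem?_eq_getElem h1,
    Option.getD_some, List.getD_eq_getElem?_getD (l := cm.getD i []) (i := k),
    List.getElem?_eq_getElem h2, Option.getD_some] at h3
  exact h3

/-- nondegeneracy -/
theorem nondeg {q : ℕ} (h : ∀ i < 6, T (lin ul q) * V (ul.getD i 0) =
    V (ul.getD i 0) * T (lin ul q)) : lin ul q = 0 := by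
  have h1 : ∀ i < 6, lin (cm.getD i []) q = 0 := by
    intro i hi
    have h2 := (PP_lin hi q).1
    rw [h i hi, mul_inv_cancel_right] at h2
    have h3 : V (lin (cm.getD i []) q) = V 0 := by
      rw [V_zero]
      exact mul_left_cancel (h2.symm.trans (mul_one _).symm)
    have h4 : ∀ i < 6, ∀ a ∈ cm.getD i [], a < 2048 := by decide +kernel
    exact V_inj (lin_lt (h4 i hi) q) (by norm_num) h3
  have h5 : ∀ q < 64, (∀ i < 6, lin (cm.getD i []) q = 0) → lin ul q = 0 := by decide +kernel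
  have h6 := h5 (q % 2 ^ 6) (Nat.mod_lt _ (by norm_num)) (by
    intro i hi
    have h7 : ∀ i < 6, (cm.getD i []).length = 6 := by decide
    have h8 := lin_mod (cm.getD i []) q
    rw [h7 i hi] at h8
    rw [h8]
    exact h1 i hi)
  have h9 := lin_mod ul q
  exact h9.symm.trans h6

/-! ### The group -/

/-- the basis of the intersection with `2^11` -/
def zu : List ℕ := [165, 873, 1394, 1, 14, 20, 34, 68, 260]

theorem lin_append (A C : List ℕ) (p : ℕ) :
    lin (A ++ C) p = lin A p ^^^ lin C (p / 2 ^ A.length) := by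
  induction A generalizing p with
  | nil => simp [lin_nil]
  | cons a A ih =>
    have h1 : p / 2 / 2 ^ A.length = p / 2 ^ (a :: A).length := by
      rw [Nat.div_div_eq_div_mul, List.length_cons, pow_succ, mul_comm 2]
    rw [List.cons_append, lin_cons, lin_cons, ih, h1]
    split_ifs
    · rw [Nat.xor_assoc]
    · rfl

/-- the intersection with `2^11` -/
noncomputable def V9 : Subgroup 𝒢 := span zu

theorem card_V9 : Nat.card V9 = 512 := by
  have h := card_span (A := zu) (by decide) (by decide +kernel)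
  exact h

/-- the conjugate by `t` -/
noncomputable def T9 : Subgroup 𝒢 := V9.map (MulAut.conj t).toMonoidHom

theorem mem_V9 {x : 𝒢} (hx : x ∈ V9) : ∃ z ∈ Z, ∃ q, x = z * V (lin ul q) := by
  obtain ⟨p, rfl⟩ := hx
  have e : zu = zl ++ ul := rfl
  refine ⟨V (lin zl p), ⟨p, rfl⟩, p / 2 ^ 3, ?_⟩
  rw [e, lin_append, V_xor]
  rfl

theorem mem_T9 {x : 𝒢} (hx : x ∈ T9) : ∃ z ∈ Z, ∃ q, x = z * T (lin ul q) := by
  obtain ⟨y, hy, rfl⟩ := hx
  obtain ⟨z, hz, q, rfl⟩ := mem_V9 hy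
  refine ⟨z, hz, q, ?_⟩
  show t * (z * V (lin ul q)) * t⁻¹ = z * T (lin ul q)
  rw [T_eq]
  have h := Z_comm t_cent hz
  calc t * (z * V (lin ul q)) * t⁻¹ = (t * z) * V (lin ul q) * t⁻¹ := by group
    _ = z * (t * V (lin ul q) * t⁻¹) := by rw [h]; group

theorem Z_le_V9 : Z ≤ V9 := by
  apply span_le
  intro a ha
  apply V_mem_span
  have h : ∀ a ∈ zl, a ∈ zu := by decide
  exact h a ha

theorem V9_comm {x y : 𝒢} (hx : x ∈ V9) (hy : y ∈ V9) : x * y = y * x := by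
  obtain ⟨p, rfl⟩ := hx
  obtain ⟨q, rfl⟩ := hy
  exact V_comm _ _

theorem V9_sq {x : 𝒢} (hx : x ∈ V9) : x * x = 1 := by
  obtain ⟨p, rfl⟩ := hx
  exact V_sq _

/-- `T(lin ul q)` acts on `V9` modulo `Z` trivially -/
theorem conj_mem {a : 𝒢} (ha : a ∈ V9) (q : ℕ) :
    T (lin ul q) * a * (T (lin ul q))⁻¹ * a⁻¹ ∈ Z := by
  have key : ∀ v ∈ zu, T (lin ul q) * V v * (T (lin ul q))⁻¹ * (V v)⁻¹ ∈ Z := by
    intro v hv
    have h1 : ∀ v ∈ zu, (∃ u < 8, lin zl u = v) ∨ ∃ i < 6, ul.getD i 0 = v := by decide +kernel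
    rcases h1 v hv with ⟨u, -, hu⟩ | ⟨i, hi, hu⟩
    · have h2 : V v ∈ Z := mem_span_of u hu
      rw [Z_comm (T_cent _) h2]
      have e : V v * T (lin ul q) * (T (lin ul q))⁻¹ * (V v)⁻¹ = 1 := by group
      rw [e]; exact Z.one_mem
    · rw [← hu, (PP_lin hi q).1, V_comm, mul_inv_cancel_right]
      exact (PP_lin hi q).2
  let S : Subgroup 𝒢 :=
    { carrier := {a | a ∈ V9 ∧ T (lin ul q) * a * (T (lin ul q))⁻¹ * a⁻¹ ∈ Z}
      one_mem' := ⟨V9.one_mem, by
        have e : T (lin ul q) * 1 * (T (lin ul q))⁻¹ * 1⁻¹ = (1 : 𝒢) := by group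
        rw [e]; exact Z.one_mem⟩
      mul_mem' := by
        rintro a b ⟨ha, ha'⟩ ⟨hb, hb'⟩
        refine ⟨V9.mul_mem ha hb, ?_⟩
        set w := T (lin ul q)
        have h1 : a * (w * b * w⁻¹ * b⁻¹) = (w * b * w⁻¹ * b⁻¹) * a :=
          V9_comm ha (Z_le_V9 hb')
        have e : w * (a * b) * w⁻¹ * (a * b)⁻¹ =
            (w * a * w⁻¹ * a⁻¹) * (a * (w * b * w⁻¹ * b⁻¹) * a⁻¹) := by group
        rw [e, h1, mul_inv_cancel_right]
        exact Z.mul_mem ha' hb'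
      inv_mem' := by
        rintro a ⟨ha, ha'⟩
        have h2 : a⁻¹ = a := inv_eq_of_mul_eq_one_left (V9_sq ha)
        rw [h2]
        exact ⟨ha, ha'⟩ }
  have h2 : V9 ≤ S := span_le (fun v hv => ⟨V_mem_span hv, key v hv⟩)
  exact (h2 ha).2

/-- the complement of `V9` in `L` -/
noncomputable def T6 : Subgroup 𝒢 := (span ul).map (MulAut.conj t).toMonoidHom

theorem mem_T6 {x : 𝒢} : x ∈ T6 ↔ ∃ q, x = T (lin ul q) := by
  constructor
  · rintro ⟨_, ⟨q, rfl⟩, rfl⟩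
    exact ⟨q, (T_eq _).symm⟩
  · rintro ⟨q, rfl⟩
    exact ⟨V (lin ul q), ⟨q, rfl⟩, (T_eq _).symm⟩

theorem card_T6 : Nat.card T6 = 64 := by
  have h := card_span (A := ul) (by decide) (by decide +kernel)
  rw [T6, card_map_equiv]
  exact h

theorem T6_norm : T6 ≤ Subgroup.normalizer (V9 : Set 𝒢) := by
  intro x hx
  obtain ⟨q, rfl⟩ := mem_T6.1 hx
  apply conj_span
  intro a ha
  have h1 := conj_mem (V_mem_span ha) q
  have h2 := V9.mul_mem (Z_le_V9 h1) (V_mem_span ha)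
  rwa [inv_mul_cancel_right] at h2

/-- **the special group of order `2^15`** -/
noncomputable def L : Subgroup 𝒢 := V9 ⊔ T6

theorem V9_inf : V9 ⊓ T6 = ⊥ := by
  rw [eq_bot_iff]
  intro x hx
  obtain ⟨h1, h2⟩ := Subgroup.mem_inf.1 hx
  obtain ⟨q, rfl⟩ := mem_T6.1 h2
  rw [Subgroup.mem_bot]
  rw [nondeg (q := q) ?_, T_zero]
  intro i hi
  have h3 : ∀ i < 6, ul.getD i 0 ∈ zu := by decide
  exact V9_comm h1 (V_mem_span (h3 i hi))

theorem card_L : Nat.card L = 2 ^ 15 := by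
  rw [L, card_sup T6_norm V9_inf, card_V9, card_T6]
  norm_num

theorem mem_L {x : 𝒢} (hx : x ∈ L) : ∃ a ∈ V9, ∃ q, x = a * T (lin ul q) := by
  obtain ⟨a, ha, b, hb, rfl⟩ := exists_mul_of_mem_sup T6_norm hx
  obtain ⟨q, rfl⟩ := mem_T6.1 hb
  exact ⟨a, ha, q, rfl⟩

theorem V9_le : V9 ≤ L := le_sup_left
theorem T6_le : T6 ≤ L := le_sup_right
theorem T_mem (q : ℕ) : T (lin ul q) ∈ L := T6_le (mem_T6.2 ⟨q, rfl⟩)
theorem Z_le_L : Z ≤ L := Z_le_V9.trans V9_le

theorem L_cent : L ≤ Subgroup.centralizer (Z : Set 𝒢) := by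
  intro x hx
  obtain ⟨a, ha, q, rfl⟩ := mem_L hx
  obtain ⟨p, rfl⟩ := ha
  exact Subgroup.mul_mem _ (V_cent _) (T_cent _)

/-- squares of elements of `L` -/
theorem L_sq {x : 𝒢} (hx : x ∈ L) : x * x ∈ Z := by
  obtain ⟨a, ha, q, rfl⟩ := mem_L hx
  have h1 := conj_mem ha q
  have e : a * T (lin ul q) * (a * T (lin ul q)) =
      a * (T (lin ul q) * a * (T (lin ul q))⁻¹ * a⁻¹) * a * (T (lin ul q) * T (lin ul q)) := by
    group
  rw [e, T_sq, mul_one, V9_comm ha (Z_le_V9 h1), mul_assoc, V9_sq ha, mul_one]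
  exact h1

/-- the centre of `L` -/
theorem center_L {x : 𝒢} (hx : x ∈ L) (hc : ∀ y ∈ L, x * y = y * x) : x ∈ Z := by
  obtain ⟨a, ha, q, rfl⟩ := mem_L hx
  have h3 : ∀ i < 6, ul.getD i 0 ∈ zu := by decide
  have h1 : lin ul q = 0 := by
    apply nondeg
    intro i hi
    have h4 : V (ul.getD i 0) ∈ V9 := V_mem_span (h3 i hi)
    have h5 := hc _ (V9_le h4)
    have h6 := V9_comm ha h4
    have h7 : a * (T (lin ul q) * V (ul.getD i 0)) = a * (V (ul.getD i 0) * T (lin ul q)) := by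
      rw [← mul_assoc, h5, ← mul_assoc, ← mul_assoc, h6]
    exact mul_left_cancel h7
  rw [h1, T_zero, mul_one] at hc ⊢
  obtain ⟨z, hz, p, rfl⟩ := mem_V9 ha
  have h2 : lin ul p = 0 := by
    apply nondeg
    intro i hi
    have h4 : T (ul.getD i 0) ∈ L := by
      have h5 : ∀ i < 6, ∃ u < 64, lin ul u = ul.getD i 0 := by decide +kernel
      obtain ⟨u, -, hu⟩ := h5 i hi
      rw [← hu]; exact T_mem u
    have h5 := hc _ h4
    have h6 := Z_comm (T_cent (ul.getD i 0)) hz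
    have h7 : z * (V (lin ul p) * T (ul.getD i 0)) = z * (T (ul.getD i 0) * V (lin ul p)) := by
      rw [← mul_assoc, h5, ← mul_assoc, ← mul_assoc, h6]
    have h8 := mul_left_cancel h7
    have h9 := congrArg (fun x => t * x * t) h8
    have e1 : t * (V (lin ul p) * T (ul.getD i 0)) * t = T (lin ul p) * V (ul.getD i 0) := by
      rw [← t_T (ul.getD i 0)]
      unfold T
      calc t * (V (lin ul p) * (t * V (ul.getD i 0) * t)) * t
          = t * V (lin ul p) * t * V (ul.getD i 0) * (t * t) := by group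
        _ = t * V (lin ul p) * t * (V (ul.getD i 0)) := by rw [t_sq, mul_one]
        _ = t * V (lin ul p) * t * ((t * t) * V (ul.getD i 0) * (t * t)) := by
          rw [t_sq, one_mul, mul_one]
        _ = _ := by group
    have e2 : t * (T (ul.getD i 0) * V (lin ul p)) * t = V (ul.getD i 0) * T (lin ul p) := by
      unfold T
      calc t * (t * V (ul.getD i 0) * t * V (lin ul p)) * t
          = (t * t) * V (ul.getD i 0) * (t * V (lin ul p) * t) := by group
        _ = _ := by rw [t_sq, one_mul]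
    rw [e1, e2] at h9
    exact h9
  rw [h2, V_zero, mul_one]
  exact hz

end Cfsg.Agent.H858.LGrp
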