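import Cfsg.Agent.H858.LGrp

/-!
# The normalizer of the special 2-group of order `2^15` of `J4`
-/

set_option autoImplicit false

open Cfsg

namespace Cfsg.Agent.H858.NormL

open Cfsg.Agent.Lib.F2MatGroup
open Cfsg.Agent.J4.Rep112 Cfsg.Agent.J4.Pres Cfsg.Agent.J4.M24Hom
open Cfsg.Agent.J4.Beta Cfsg.Agent.J4.Classes
open Cfsg.Agent.H858.VK Cfsg.Agent.H858.Data Cfsg.Agent.H858.Elem Cfsg.Agent.H858.Pent
open Cfsg.Agent.H858.Norm57 Cfsg.Agent.H858.Abs Cfsg.Agent.StdL2.G23Aut Cfsg.Agent.H858.Loc7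
open Cfsg.Agent.H858.Loc5 Cfsg.Agent.H858.LGrp

/-- the group `Spor.J4` -/
local notation "𝒢" => Cfsg.Spor.J4

theorem mem_normalizer_of_map {A : Subgroup 𝒢} {x : 𝒢}
    (h : A.map (MulAut.conj x).toMonoidHom ≤ A) : x ∈ Subgroup.normalizer (A : Set 𝒢) := by
  have h2 : A.map (MulAut.conj x).toMonoidHom = A :=
    Subgroup.eq_of_le_of_card_ge h
      (Nat.card_congr (A.equivMapOfInjective (MulAut.conj x).toMonoidHom
        (MulAut.conj x).injective).toEquiv).le
  rw [Subgroup.mem_normalizer_iff]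
  intro y
  constructor
  · intro hy
    rw [← h2]
    exact ⟨y, hy, rfl⟩
  · intro hy
    rw [← h2] at hy
    obtain ⟨z, hz, hzy⟩ := hy
    have h5 : x * z * x⁻¹ = x * y * x⁻¹ := hzy
    have h6 : z = y := mul_left_cancel (mul_right_cancel h5)
    exact h6 ▸ hz

theorem T9_le : T9 ≤ L := by
  intro x hx
  obtain ⟨z, hz, q, rfl⟩ := mem_T9 hx
  exact L.mul_mem (Z_le_L hz) (T_mem q)

theorem T6_le_T9 : T6 ≤ T9 := by
  apply Subgroup.map_mono
  apply span_le
  intro a ha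
  apply V_mem_span
  have h : ∀ a ∈ ul, a ∈ zu := by decide
  exact h a ha

theorem L_eq : L = V9 ⊔ T9 :=
  le_antisymm (sup_le le_sup_left (T6_le_T9.trans le_sup_right)) (sup_le V9_le T9_le)

/-- criterion for the normalizer of `L` -/
theorem mem_NL {x : 𝒢} (h1 : ∀ a ∈ zu, x * V a * x⁻¹ ∈ L) (h2 : ∀ a ∈ ul, x * T a * x⁻¹ ∈ L) :
    x ∈ Subgroup.normalizer (L : Set 𝒢) := by
  apply mem_normalizer_of_map
  unfold L
  rw [Subgroup.map_sup]
  apply sup_le
  · rw [Subgroup.map_le_iff_le_comap]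
    exact span_le h1
  · unfold T6
    rw [Subgroup.map_map, Subgroup.map_le_iff_le_comap]
    apply span_le
    intro a ha
    have h3 := h2 a ha
    rw [T_eq] at h3
    exact h3

theorem t_NL : t ∈ Subgroup.normalizer (L : Set 𝒢) := by
  apply mem_NL
  · intro a ha
    exact T9_le ⟨V a, V_mem_span ha, rfl⟩
  · intro a ha
    have h : ∀ a ∈ ul, a ∈ zu := by decide
    have e : t * T a * t⁻¹ = V a := by rw [t_inv, t_T]
    rw [e]
    exact V9_le (V_mem_span (h a ha))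

/-- elements commuting with `t` -/
theorem comm_NL {x : 𝒢} (hx : t * x = x * t) (h1 : ∀ a ∈ zu, x * V a * x⁻¹ ∈ V9) :
    x ∈ Subgroup.normalizer (L : Set 𝒢) := by
  apply mem_NL
  · intro a ha
    exact V9_le (h1 a ha)
  · intro a ha
    have h : ∀ a ∈ ul, a ∈ zu := by decide
    have h2 := h1 a (h a ha)
    have e : x * T a * x⁻¹ = t * (x * V a * x⁻¹) * t⁻¹ := by
      rw [T_eq]
      calc x * (t * V a * t⁻¹) * x⁻¹ = (x * t) * V a * (x * t)⁻¹ := by group
        _ = (t * x) * V a * (t * x)⁻¹ := by rw [hx]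
        _ = _ := by group
    rw [e]
    exact T9_le ⟨_, h2, rfl⟩

/-- matrix of `x` -/
def mx : List ℕ := [21, 8, 16, 2, 4, 128, 256, 32, 64, 1024, 512]
/-- matrix of `z` -/
def mz : List ℕ := [335, 838, 1397, 1906, 1096, 1559, 327, 481, 1343, 585, 19]

theorem K_NL {k : M24} (hk : k ∈ Cfsg.Agent.J4.TrioAll.K) :
    phi k ∈ Subgroup.normalizer (L : Set 𝒢) := by
  unfold Cfsg.Agent.J4.TrioAll.K at hk
  induction hk using Subgroup.closure_induction with
  | mem k hk =>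
    rcases hk with rfl | rfl
    · have e : Cfsg.Agent.J4.TrioAll.ga = kw [0] := (mul_one _).symm
      rw [e]
      apply comm_NL (kw_comm _)
      intro a ha
      rw [conj_kw (M := mx) (by decide +kernel)]
      have h : ∀ a ∈ zu, ∃ u < 512, lin zu u = lin mx a := by decide +kernel
      obtain ⟨u, -, hu⟩ := h a ha
      exact mem_span_of u hu
    · have e : Cfsg.Agent.J4.TrioAll.gb = kw [1] := (mul_one _).symm
      rw [e]
      apply comm_NL (kw_comm _)
      intro a ha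
      rw [conj_kw (M := mz) (by decide +kernel)]
      have h : ∀ a ∈ zu, ∃ u < 512, lin zu u = lin mz a := by decide +kernel
      obtain ⟨u, -, hu⟩ := h a ha
      exact mem_span_of u hu
  | one => rw [map_one]; exact Subgroup.one_mem _
  | mul a b _ _ ha hb => rw [map_mul]; exact Subgroup.mul_mem _ ha hb
  | inv a _ ha => rw [map_inv]; exact Subgroup.inv_mem _ ha

theorem d_NL {d n : ℕ} (cd : List (ℕ × ℕ)) (hd : getG LX n = V d)
    (h : ∀ k < 6, (n :: (tu (ul.getD k 0) ++ [n]),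
      bb (cd.getD k (0, 0)).1 ++ tu (cd.getD k (0, 0)).2) ∈ eqsX)
    (h1 : ∀ k < 6, ∃ u < 512, lin zu u = (cd.getD k (0, 0)).1)
    (h2 : ∀ k < 6, ∃ u < 512, lin zu u = (cd.getD k (0, 0)).2) :
    V d ∈ Subgroup.normalizer (L : Set 𝒢) := by
  apply mem_NL
  · intro a ha
    rw [V_comm, mul_inv_cancel_right]
    exact V9_le (V_mem_span ha)
  · intro a ha
    have h3 : ∀ a ∈ ul, ∃ k < 6, ul.getD k 0 = a := by decide
    obtain ⟨k, hk, rfl⟩ := h3 a ha
    have h4 := eqX (h k hk)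
    simp only [evG_cons, evG_append, evG_bb, evG_tu, evG_nil, mul_one, hd] at h4
    have e : V d * T (ul.getD k 0) * (V d)⁻¹ = V (cd.getD k (0, 0)).1 * T (cd.getD k (0, 0)).2 := by
      rw [V_inv, mul_assoc]
      exact h4
    rw [e]
    obtain ⟨u, -, hu⟩ := h1 k hk
    obtain ⟨v, -, hv⟩ := h2 k hk
    refine L.mul_mem (V9_le ⟨u, by rw [hu]⟩) (T9_le ⟨V (cd.getD k (0, 0)).2, ⟨v, by rw [hv]⟩, ?_⟩)
    exact (T_eq _).symm

theorem d1_NL : V 1327 ∈ Subgroup.normalizer (L : Set 𝒢) :=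
  d_NL (n := 5) cd1 g5 (by decide +kernel) (by decide +kernel) (by decide +kernel)

theorem d2_NL : V 1217 ∈ Subgroup.normalizer (L : Set 𝒢) :=
  d_NL (n := 4) cd2 g4 (by decide +kernel) (by decide +kernel) (by decide +kernel)

/-- a basis of `2^11` adapted to `V9` -/
def za : List ℕ := zu ++ [1327, 1217]

theorem EJ_eq : Cfsg.Agent.J4.Invol.EJ = span za := by
  symm
  apply Subgroup.eq_of_le_of_card_ge
  · apply span_le
    intro a _
    exact V_mem a
  · rw [Cfsg.Agent.J4.Invol.card_EJ rho_injective]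
    have h := card_span (A := za) (by decide) (by decide +kernel)
    exact h.ge

theorem EJ_NL : Cfsg.Agent.J4.Invol.EJ ≤ Subgroup.normalizer (L : Set 𝒢) := by
  rw [EJ_eq]
  apply span_le
  intro a ha
  unfold za at ha
  rcases List.mem_append.1 ha with h | h
  · exact Subgroup.le_normalizer (V9_le (V_mem_span h))
  · simp only [List.mem_cons, List.not_mem_nil, or_false] at h
    rcases h with rfl | rfl
    · exact d1_NL
    · exact d2_NL

/-! ### Orders -/

theorem K_eq : Cfsg.Agent.J4.TrioAll.K ≤ FixJ4.S 1 := by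
  intro u hu
  rw [FixJ4.mem_S]
  have h1 : FixJ4.r 1 = t := mul_one _
  rw [h1, t_comm hu, mul_inv_cancel_right]
  exact Cfsg.Agent.J4.Upper.range_le ⟨u, rfl⟩

theorem card_K : Nat.card Cfsg.Agent.J4.TrioAll.K = 64512 := by
  apply le_antisymm
  · have h := Subgroup.card_le_of_le K_eq
    rw [FixJ4.card_S] at h
    exact h
  · exact Cfsg.Agent.J4.TrioAll.card_K

/-- the subgroup `2^11 : 2^6 : (S_3 × L_3(2))` -/
noncomputable def X0 : Subgroup 𝒢 := Cfsg.Agent.J4.Invol.EJ ⊔ Cfsg.Agent.J4.TrioAll.K.map phi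

theorem card_X0 : Nat.card X0 = 2 ^ 11 * 64512 := by
  unfold X0
  rw [card_sup, Cfsg.Agent.J4.Invol.card_EJ rho_injective,
    Subgroup.card_map_of_injective phi_injective, card_K]
  · exact (Subgroup.map_le_range phi _).trans phi_norm
  · rw [eq_bot_iff]
    intro x hx
    obtain ⟨h1, h2⟩ := Subgroup.mem_inf.1 hx
    obtain ⟨k, -, rfl⟩ := h2
    rw [Subgroup.mem_bot]
    exact inf_eq_one _ h1 ⟨k, rfl⟩

/-- the subgroup generated by `X0` and `t` -/
noncomputable def W : Subgroup 𝒢 := X0 ⊔ Subgroup.zpowers t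

theorem X0_le_W : X0 ≤ W := le_sup_left
theorem V_W (v : ℕ) : V v ∈ W := X0_le_W ((le_sup_left : _ ≤ X0) (V_mem v))
theorem K_W {k : M24} (hk : k ∈ Cfsg.Agent.J4.TrioAll.K) : phi k ∈ W :=
  X0_le_W ((le_sup_right : _ ≤ X0) ⟨k, hk, rfl⟩)
theorem t_W : t ∈ W := (le_sup_right : _ ≤ W) (Subgroup.mem_zpowers t)
theorem s_W : s ∈ W := K_W (kw_mem _)
theorem b_W : b ∈ W := K_W (kw_mem _)
theorem c_W : c ∈ W := K_W (kw_mem _)
theorem e_W : e ∈ W := K_W (kw_mem _)
theorem f_W : f ∈ W := W.mul_mem (W.mul_mem t_W (V_W _)) b_W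
theorem r_W : r ∈ W := W.mul_mem (W.mul_mem (V_W _) t_W) c_W
theorem j_W : j ∈ W := W.mul_mem (V_W _) (K_W (kw_mem _))

theorem W_le : W ≤ Subgroup.normalizer (L : Set 𝒢) := by
  unfold W X0
  refine sup_le (sup_le EJ_NL ?_) ?_
  · rintro _ ⟨k, hk, rfl⟩
    exact K_NL hk
  · rw [Subgroup.zpowers_le]
    exact t_NL

theorem orderOf_f : orderOf f = 5 := by
  have : Fact (Nat.Prime 5) := ⟨by norm_num⟩
  exact orderOf_eq_prime f_pow f_ne

theorem dvd_card_W : 660602880 ∣ Nat.card W := by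
  have h1 : 2 ^ 11 * 64512 ∣ Nat.card W := by
    rw [← card_X0]
    exact Subgroup.card_dvd_of_le X0_le_W
  have h2 : 5 ∣ Nat.card W := orderOf_f ▸ NormC.orderOf_dvd_of_mem f_W
  have h3 := Nat.Coprime.mul_dvd_of_dvd_of_dvd (by norm_num) h1 h2
  exact h3

theorem NL_le_NZ : Subgroup.normalizer (L : Set 𝒢) ≤ Subgroup.normalizer (Z : Set 𝒢) := by
  intro x hx
  apply mem_normalizer_of_map
  rintro _ ⟨z, hz, rfl⟩
  show x * z * x⁻¹ ∈ Z
  apply center_L
  · exact (Subgroup.mem_normalizer_iff.1 hx z).1 (Z_le_L hz)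
  · intro y hy
    have h1 : x⁻¹ * y * x ∈ L := by
      rw [Subgroup.mem_normalizer_iff.1 hx]
      have e : x * (x⁻¹ * y * x) * x⁻¹ = y := by group
      rwa [e]
    have h2 := Subgroup.mem_centralizer_iff.1 (L_cent h1) z hz
    calc x * z * x⁻¹ * y = x * (z * (x⁻¹ * y * x)) * x⁻¹ := by group
      _ = x * ((x⁻¹ * y * x) * z) * x⁻¹ := by rw [h2]
      _ = y * (x * z * x⁻¹) := by group

theorem img_top : img (Subgroup.normalizer (Z : Set 𝒢)) Z = ⊤ := by
  rw [← full_iff le_rfl]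
  intro φ
  obtain ⟨x, hx⟩ := πJ_surjective φ
  refine ⟨x, J_le_norm x.2, fun v => ?_⟩
  rw [← hx]
  rfl

theorem card_NZ : 168 * Nat.card (Subgroup.centralizer (Z : Set 𝒢)) =
    Nat.card (Subgroup.normalizer (Z : Set 𝒢)) := by
  have h := card_img_mul (K := Subgroup.normalizer (Z : Set 𝒢)) (V := Z) le_rfl
  rw [img_top, Subgroup.card_top, oct_Z.card_aut,
    inf_eq_right.2 (NormC.centralizer_le_normalizer Z)] at h
  exact h

/-- `V 165` is conjugate to the 2-central involution -/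
theorem exists_conj_s : ∃ g : 𝒢, g * Cfsg.Agent.J4.Invol.s * g⁻¹ = V 165 := by
  refine ⟨phi (Cfsg.Agent.J4.Nodes.wordG [1, 0, 1, 0, 1, 0, 1, 0, 2, 0]), ?_⟩
  apply rho_injective
  rw [map_mul, map_mul, map_inv, Cfsg.Agent.J4.Invol.rho_s, rho_V]
  have h := act_word [1, 0, 1, 0, 1, 0, 1, 0, 2, 0] 1024
  have h1 : actG Cfsg.Agent.J4.ClassesData.Ax Cfsg.Agent.J4.ClassesData.Ay
      [1, 0, 1, 0, 1, 0, 1, 0, 2, 0] 1024 = 165 := by decide +kernel
  rw [h1] at h
  exact h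

theorem card_cent_165 (hs : Nat.card (Subgroup.centralizer ({Cfsg.Agent.J4.Invol.s} : Set 𝒢)) =
    21799895040) : Nat.card (Subgroup.centralizer ({V 165} : Set 𝒢)) = 21799895040 := by
  obtain ⟨g, hg⟩ := exists_conj_s
  rw [← hs]
  refine Nat.card_congr (Equiv.subtypeEquiv (MulAut.conj g⁻¹).toEquiv ?_)
  intro x
  rw [Subgroup.mem_centralizer_singleton_iff, Subgroup.mem_centralizer_singleton_iff, ← hg]
  show x * _ = _ * x ↔ (g⁻¹ * x * (g⁻¹)⁻¹) * Cfsg.Agent.J4.Invol.s =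
    Cfsg.Agent.J4.Invol.s * (g⁻¹ * x * (g⁻¹)⁻¹)
  constructor
  · intro h
    have h1 := congrArg (fun y => g⁻¹ * y * g) h
    have e1 : g⁻¹ * (x * (g * Cfsg.Agent.J4.Invol.s * g⁻¹)) * g =
      (g⁻¹ * x * (g⁻¹)⁻¹) * Cfsg.Agent.J4.Invol.s := by group
    have e2 : g⁻¹ * (g * Cfsg.Agent.J4.Invol.s * g⁻¹ * x) * g =
      Cfsg.Agent.J4.Invol.s * (g⁻¹ * x * (g⁻¹)⁻¹) := by group
    rw [← e1, ← e2]
    exact h1
  · intro h
    have h1 := congrArg (fun y => g * y * g⁻¹) h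
    have e1 : g * ((g⁻¹ * x * (g⁻¹)⁻¹) * Cfsg.Agent.J4.Invol.s) * g⁻¹ =
      x * (g * Cfsg.Agent.J4.Invol.s * g⁻¹) := by group
    have e2 : g * (Cfsg.Agent.J4.Invol.s * (g⁻¹ * x * (g⁻¹)⁻¹)) * g⁻¹ =
      g * Cfsg.Agent.J4.Invol.s * g⁻¹ * x := by group
    rw [← e1, ← e2]
    exact h1

/-! ### Sylow normalizers -/

/-- a criterion for the inclusion of the normalizer -/
theorem normalizer_le {P Y : Subgroup 𝒢} {r : 𝒢} {p n : ℕ} [Fact p.Prime]
    (hC : Subgroup.centralizer (P : Set 𝒢) ≤ Y) (hr : r ∈ Subgroup.normalizer (P : Set 𝒢))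
    (hrY : r ∈ Y) (h1 : r ^ p ^ (n + 1) = 1)
    (h2 : r ^ p ^ n ∉ Subgroup.centralizer (P : Set 𝒢))
    (hcard : Nat.card (Subgroup.normalizer (P : Set 𝒢)) =
      p ^ (n + 1) * Nat.card (Subgroup.centralizer (P : Set 𝒢))) :
    Subgroup.normalizer (P : Set 𝒢) ≤ Y := by
  have hC' : Subgroup.centralizer (P : Set 𝒢) ≤ Y ⊓ Subgroup.normalizer (P : Set 𝒢) :=
    le_inf hC (NormC.centralizer_le_normalizer P)
  set f := P.normalizerMonoidHom with hf
  set Y' : Subgroup (Subgroup.normalizer (P : Set 𝒢)) :=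
    Y.subgroupOf (Subgroup.normalizer (P : Set 𝒢)) with hY'
  set r' : Subgroup.normalizer (P : Set 𝒢) := ⟨r, hr⟩ with hr'
  have hr2 : r' ∈ Y' := Subgroup.mem_subgroupOf.2 hrY
  have h3 : orderOf (f r') = p ^ (n + 1) := by
    apply orderOf_eq_prime_pow
    · intro h
      apply h2
      rw [← map_pow] at h
      have h4 : r' ^ p ^ n ∈ f.ker := h
      rw [hf, Subgroup.normalizerMonoidHom_ker, Subgroup.mem_subgroupOf] at h4
      exact h4
    · rw [← map_pow]
      have h4 : r' ^ p ^ (n + 1) = 1 := Subtype.ext h1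
      rw [h4, map_one]
  have h4 : p ^ (n + 1) ∣ Nat.card (Y'.map f) := by
    rw [← h3]
    exact NormC.orderOf_dvd_of_mem ⟨r', hr2, rfl⟩
  have h5 : Nat.card (Subgroup.normalizer (P : Set 𝒢)) =
      Nat.card f.range * Nat.card (Subgroup.centralizer (P : Set 𝒢)) := by
    rw [← Subgroup.index_ker, hf, Subgroup.normalizerMonoidHom_ker]
    have h6 : Nat.card ((Subgroup.centralizer (P : Set 𝒢)).subgroupOf
        (Subgroup.normalizer (P : Set 𝒢))) = Nat.card (Subgroup.centralizer (P : Set 𝒢)) :=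
      Nat.card_congr (Subgroup.subgroupOfEquivOfLe (NormC.centralizer_le_normalizer P)).toEquiv
    rw [← h6]
    exact (Subgroup.index_mul_card _).symm
  have h6 : Nat.card f.range = p ^ (n + 1) := by
    rw [hcard] at h5
    exact (Nat.eq_of_mul_eq_mul_right Nat.card_pos h5).symm
  have h7 : Y'.map f = f.range := by
    apply Subgroup.eq_of_le_of_card_ge
    · rintro _ ⟨y, -, rfl⟩
      exact ⟨y, rfl⟩
    · rw [h6]
      exact Nat.le_of_dvd Nat.card_pos h4
  intro x hx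
  have h8 : f ⟨x, hx⟩ ∈ Y'.map f := by rw [h7]; exact ⟨_, rfl⟩
  obtain ⟨y, hy, hyx⟩ := h8
  have h9 : y⁻¹ * ⟨x, hx⟩ ∈ f.ker := by
    rw [MonoidHom.mem_ker, map_mul, map_inv, hyx, inv_mul_cancel]
  rw [hf, Subgroup.normalizerMonoidHom_ker, Subgroup.mem_subgroupOf] at h9
  have h10 : (y : 𝒢)⁻¹ * x ∈ Y := hC h9
  have e : x = y * ((y : 𝒢)⁻¹ * x) := by group
  rw [e]
  exact Y.mul_mem (Subgroup.mem_subgroupOf.1 hy) h10

theorem NF5_le : Subgroup.normalizer (F5 : Set 𝒢) ≤ W := by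
  have : Fact (Nat.Prime 2) := ⟨by norm_num⟩
  refine normalizer_le (p := 2) (n := 1) ?_ r_mem r_W (by simpa using r_pow) ?_ ?_
  · obtain ⟨-, -, -, -, h⟩ := Loc5.directProduct
    rw [← h]
    refine sup_le ?_ ?_
    · unfold F5; rw [Subgroup.zpowers_le]; exact f_W
    · unfold J
      rw [Subgroup.closure_le]
      rintro _ (rfl | rfl)
      · exact s_W
      · exact j_W
  · rw [pow_one]; exact sq_notMem r_mul_f f_pow f_ne
  · rw [card_normalizer_F5, Loc5.card_C]; norm_num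

theorem NS7_le : Subgroup.normalizer (S7 : Set 𝒢) ≤ W := by
  have : Fact (Nat.Prime 3) := ⟨by norm_num⟩
  refine normalizer_le (p := 3) (n := 0) ?_ e_mem e_W (by simpa using e_pow) ?_ ?_
  · obtain ⟨-, -, -, -, h⟩ := Loc7.directProduct
    rw [← h]
    refine sup_le ?_ ?_
    · rw [S7_eq', Subgroup.zpowers_le]; exact s_W
    · unfold I0
      rw [Subgroup.closure_le]
      rintro _ (rfl | rfl)
      · exact f_W
      · exact t_W
  · simpa using e_notMem
  · rw [card_normalizer_S7, Loc7.card_C]; norm_num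

/-- the index of a subgroup containing a Sylow normalizer -/
theorem index_modEq {P X : Subgroup 𝒢} {p : ℕ} [Fact p.Prime] (hP : Nat.card P = p)
    (hpp : ¬ p * p ∣ Nat.card 𝒢) (hX : Subgroup.normalizer (P : Set 𝒢) ≤ X) :
    X.index ≡ 1 [MOD p] := by
  have h1 := NormC.isPGroup_of_card hP
  have h2 := Fix.card_fix_mul (Subgroup.le_normalizer.trans hX) h1 (NormC.not_dvd_index hP hpp)
  rw [inf_eq_left.2 hX] at h2
  have h3 : (Fix.fixSet X P).ncard = 1 := by
    have h4 : 0 < Nat.card (Subgroup.normalizer (P : Set 𝒢)) := Nat.card_pos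
    exact Nat.eq_of_mul_eq_mul_right h4 (h2.trans (one_mul _).symm)
  have h4 := Fix.card_fix_modEq X h1
  rw [h3] at h4
  exact h4.symm

theorem card_NZ_eq (hs : Nat.card (Subgroup.centralizer ({Cfsg.Agent.J4.Invol.s} : Set 𝒢)) =
    21799895040) : Nat.card (Subgroup.normalizer (Z : Set 𝒢)) = 660602880 := by
  have : Fact (Nat.Prime 5) := ⟨by norm_num⟩
  have : Fact (Nat.Prime 7) := ⟨by norm_num⟩
  have hW : W ≤ Subgroup.normalizer (Z : Set 𝒢) := W_le.trans NL_le_NZ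
  have h1 : Nat.card (Subgroup.centralizer (Z : Set 𝒢)) ∣ 21799895040 := by
    rw [← card_cent_165 hs]
    apply Subgroup.card_dvd_of_le
    apply Subgroup.centralizer_le
    rw [Set.singleton_subset_iff]
    exact V_mem_Z 1 (by decide)
  have h2 : Nat.card (Subgroup.normalizer (Z : Set 𝒢)) ∣ 168 * 21799895040 := by
    rw [← card_NZ]
    exact Nat.mul_dvd_mul_left _ h1
  have h3 : Nat.card (Subgroup.normalizer (Z : Set 𝒢)) ∣ 86775571046077562880 := by
    rw [← FixJ4.card_J4]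
    exact Subgroup.card_subgroup_dvd_card _
  have h4 := Nat.dvd_gcd h2 h3
  have h5 : Nat.gcd (168 * 21799895040) 86775571046077562880 = 660602880 * 33 := by norm_num
  rw [h5] at h4
  obtain ⟨k, hk⟩ := dvd_card_W.trans (Subgroup.card_dvd_of_le hW)
  rw [hk] at h4
  have h6 : k ∣ 33 := Nat.dvd_of_mul_dvd_mul_left (by norm_num) h4
  have h7 := (Subgroup.normalizer (Z : Set 𝒢)).card_mul_index
  rw [hk, FixJ4.card_J4] at h7
  have m5 := index_modEq (p := 5) card_F5 (by rw [FixJ4.card_J4]; norm_num) (NF5_le.trans hW)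
  have m7 := index_modEq (p := 7) card_S7 (by rw [FixJ4.card_J4]; norm_num) (NS7_le.trans hW)
  set i := (Subgroup.normalizer (Z : Set 𝒢)).index
  have h8 : k * i = 131358148251 := by
    have e : 660602880 * (k * i) = 660602880 * 131358148251 := by
      rw [← mul_assoc, h7]
    exact Nat.eq_of_mul_eq_mul_left (by norm_num) e
  have h9 : k ≤ 33 := Nat.le_of_dvd (by norm_num) h6
  have m5' : i % 5 = 1 := m5
  have m7' : i % 7 = 1 := m7
  have h10 : k = 1 := by
    have h11 : k = 1 ∨ k = 3 ∨ k = 11 ∨ k = 33 := by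
      clear hk h7 h8 m5 m7 m5' m7' h4
      interval_cases k <;> revert h6 <;> decide
    rcases h11 with rfl | rfl | rfl | rfl
    · rfl
    · omega
    · omega
    · omega
  rw [hk, h10, mul_one]

end Cfsg.Agent.H858.NormL
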