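import Cfsg.Agent.H651.Two.Row

/-!
# Certificates for `HS` (generated by tools/sieve651/rowgen.py, helper858)
-/

set_option autoImplicit false
set_option maxRecDepth 100000

open Cfsg Subgroup

namespace Cfsg.Agent.H858.TwoHS

open Cfsg.Agent.H651.Two Cfsg.Agent.H653.Sieve Cfsg.Agent.Characters.Core Cfsg.Agent.H596.OneFacts

universe u

variable {G : Type u} [Group G] [Finite G] [IsSimpleGroup G]

/-- The columns. -/
def cd : List CD :=
  [⟨7, 1, 6, 1, [(0, 0), (1, 1), (6, -1)], 0, false⟩,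
    ⟨11, 1, 5, 2, [(0, 0), (1, 2), (5, -1), (6, 1), (10, -2)], 2, true⟩]

def pr : List ((ℕ → Bool) × ℕ) := [(fun d => Nat.beq d 22, 1), (fun d => Nat.beq d 77, 1)]

theorem ok : (cd.all (CD.ok 44352000)) = true := by decide +kernel

theorem nd : (cd.map CD.r).Nodup := by decide

def facs : List (ℕ × ℕ) := [(11, 1), (7, 1), (5, 3), (3, 2), (2, 9)]

theorem facs_prime : (facs.all fun pa => Nat.Prime pa.1) = true := by norm_num [facs]

theorem facs_prod : facProd facs = 44352000 := by decide +kernel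

/-! ### `p = 2` -/

def c2 : List Cert :=
  [⟨1, [⟨0, 0, 0, [100000000]⟩, ⟨-90909, -954545, 80500000, []⟩], [0, 0], -11647993⟩]

theorem h1_2 : (c2.all (headOK 44352000 (cd.map CD.par) pr)) = true := by decide +kernel

def kn2 : List (ℕ → Bool) := [fun d => Nat.beq d 22]

theorem h2_2 : allDiv 44352000 (scenD 44352000 2 2 (cd.map CD.par) pr kn2
    (cd.map CD.t) (fun _ _ _ => true) c2) facs 1 = true := by decide +kernel

theorem two_2 (hG : ¬ IsMulCommutative G) (hN : Nat.card G = 44352000) (hM : Nat.card (Out G) ≤ 2)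
    (hx : ∀ d ∈ cd, d.Has G) (hpr : ∀ Pc ∈ pr, Pc.2 ≤ Nat.card {χ : IrrCharacter G // Pc.1 (charDegree (χ : G → ℂ)) = true}) (hkn : ∀ P ∈ kn2, ∃ χ ∈ PD 2 G, P (charDegree (χ : G → ℂ)) = true) : Two 2 G := by
  have : Fact (Nat.Prime 2) := ⟨by norm_num⟩
  exact two_of_data hG 44352000 2 hN hM facs facs_prime facs_prod cd ok nd hx pr
    hpr kn2 hkn c2 h1_2 (by decide) h2_2

/-! ### `p = 7` -/

def c7 : List Cert :=
  [⟨0, [⟨0, 100, 0, [0]⟩, ⟨0, -25, -75, []⟩], [100, 0], -100⟩]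

theorem h1_7 : (c7.all (headOK 44352000 (cd.map CD.par) pr)) = true := by decide +kernel

def kn7 : List (ℕ → Bool) := [fun d => Nat.beq d 77]

theorem h2_7 : allDiv 44352000 (scenD 44352000 7 2 (cd.map CD.par) pr kn7
    (cd.map CD.t) (fun _ _ _ => true) c7) facs 1 = true := by decide +kernel

theorem two_7 (hG : ¬ IsMulCommutative G) (hN : Nat.card G = 44352000) (hM : Nat.card (Out G) ≤ 2)
    (hx : ∀ d ∈ cd, d.Has G) (hpr : ∀ Pc ∈ pr, Pc.2 ≤ Nat.card {χ : IrrCharacter G // Pc.1 (charDegree (χ : G → ℂ)) = true}) (hkn : ∀ P ∈ kn7, ∃ χ ∈ PD 7 G, P (charDegree (χ : G → ℂ)) = true) : Two 7 G := by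
  have : Fact (Nat.Prime 7) := ⟨by norm_num⟩
  exact two_of_data hG 44352000 2 hN hM facs facs_prime facs_prod cd ok nd hx pr
    hpr kn7 hkn c7 h1_7 (by decide) h2_7


end Cfsg.Agent.H858.TwoHS
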